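import Groth.Agent.RegLoc6.Descent
import Mathlib.RingTheory.Invariant.Basic
import Mathlib.RingTheory.Nakayama
import Mathlib.RingTheory.LocalRing.RingHom.Basic
import Mathlib.LinearAlgebra.FiniteDimensional.Basic
import Mathlib.FieldTheory.Fixed
import Mathlib.Algebra.Algebra.Subalgebra.Basic
import Mathlib.RingTheory.Ideal.Quotient.Operations

/-!
# Chevalley–Shephard–Todd for a finite group acting on a regular local ring
-/

universe u

namespace Groth.Agent.PsReflLib.Const

open IsLocalRing

variable {k : Type u} [Field k] {R : Type u} [CommRing R] [Algebra k R] [IsLocalRing R]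
variable {G : Type u} [Group G] [Finite G] [MulSemiringAction G R] [SMulCommClass G k R]

local notation "S" => FixedPoints.subalgebra k R G

theorem smul_mem_maximalIdeal (g : G) {a : R} (ha : a ∈ maximalIdeal R) : g • a ∈ maximalIdeal R := by
  rw [mem_maximalIdeal, mem_nonunits_iff] at ha ⊢
  intro hu
  exact ha (by simpa using hu.map (MulSemiringAction.toRingHom G R g⁻¹))

theorem smul_mem_pow (g : G) (N : ℕ) {a : R} (ha : a ∈ maximalIdeal R ^ N) : g • a ∈ maximalIdeal R ^ N := by
  induction N generalizing a with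
  | zero => simp
  | succ N ih =>
    rw [pow_succ] at ha ⊢
    induction ha using Submodule.mul_induction_on' with
    | add a _ b _ ha hb => rw [smul_add]; exact Ideal.add_mem _ ha hb
    | mem_mul_mem a ha b hb => rw [smul_mul']; exact Ideal.mul_mem_mul (ih ha) (smul_mem_maximalIdeal g hb)

theorem smul_algebraMap' (g : G) (c : k) : g • algebraMap k R c = algebraMap k R c := by
  rw [Algebra.algebraMap_eq_smul_one, smul_comm, smul_one]

/-- Averaging. -/
noncomputable def avg [Fintype G] : R →ₗ[k] R :=
  (Fintype.card G : k)⁻¹ • ∑ g : G, DistribSMul.toLinearMap k R g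

theorem avg_apply [Fintype G] (a : R) : avg (k := k) (G := G) a = (Fintype.card G : k)⁻¹ • ∑ g : G, g • a := by
  simp [avg]

theorem avg_mem [Fintype G] (a : R) : avg (k := k) (G := G) a ∈ S := fun g => by
  rw [avg_apply, smul_comm, Finset.smul_sum]
  exact congrArg _ (Fintype.sum_equiv (Equiv.mulLeft g) _ _ fun h => (mul_smul g h a).symm)

theorem avg_mul [Fintype G] (a : R) {s : R} (hs : s ∈ S) : avg (k := k) (G := G) (a * s) = avg (k := k) (G := G) a * s := by
  simp only [avg_apply, smul_mul', Algebra.smul_def ((Fintype.card G : k)⁻¹), mul_assoc, Finset.sum_mul,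
    show ∀ g : G, g • s = s from hs]

theorem avg_sub_self_mem [Fintype G] (hG : (Fintype.card G : k) ≠ 0) {Q : Ideal R} {a : R}
    (h : ∀ g : G, g • a - a ∈ Q) : avg (k := k) (G := G) a - a ∈ Q := by
  have e : avg (k := k) (G := G) a - a = (Fintype.card G : k)⁻¹ • ∑ g : G, (g • a - a) := by
    rw [avg_apply, Finset.sum_sub_distrib, Finset.sum_const, Finset.card_univ, smul_sub, ← Nat.cast_smul_eq_nsmul k,
      inv_smul_smul₀ hG]
  rw [e, Algebra.smul_def]
  exact Ideal.mul_mem_left _ _ (Ideal.sum_mem _ fun g _ => h g)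

/-- A pseudo-reflection moves every function by a multiple of a single parameter. -/
theorem exists_param [IsNoetherianRing R] (hx : Function.Surjective ((residue R).comp (algebraMap k R)))
    (hG : (Nat.card G : k) ≠ 0) (g : G)
    (hg : ∃ l₀ : R, ∀ a : R, ∃ c : k, g • a - a - c • l₀ ∈ maximalIdeal R ^ 2) :
    (∀ a : R, g • a = a) ∨ ∃ l : R, l ≠ 0 ∧ l ∈ maximalIdeal R ∧ ∀ a : R, l ∣ g • a - a := by
  classical
  obtain ⟨l₀, hl₀⟩ := hg
  haveI := Fintype.ofFinite G
  set m := maximalIdeal R
  let I : Ideal R := Ideal.span (Set.range fun a : R => g • a - a)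
  have hmem : ∀ a, g • a - a ∈ I := fun a => Ideal.subset_span ⟨a, rfl⟩
  have hIm : I ≤ m := Ideal.span_le.mpr (by
    rintro _ ⟨a, rfl⟩
    obtain ⟨c, hc⟩ := hx (residue R a)
    have ha : a - algebraMap k R c ∈ m := by
      rw [← residue_eq_zero_iff, map_sub, sub_eq_zero]; exact hc.symm
    have h := m.sub_mem (smul_mem_maximalIdeal g ha) ha
    rwa [smul_sub, smul_algebraMap', sub_sub_sub_cancel_right] at h)
  -- on the square of the maximal ideal the deviation is small
  have hsq : ∀ b ∈ m ^ 2, g • b - b ∈ m * I := by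
    intro b hb
    rw [pow_two] at hb
    induction hb using Submodule.mul_induction_on' with
    | add a _ b _ ha hb => rw [smul_add, add_sub_add_comm]; exact Ideal.add_mem _ ha hb
    | mem_mul_mem a ha b hb =>
      rw [smul_mul', show g • a * g • b - a * b = g • a * (g • b - b) + b * (g • a - a) by ring]
      exact Ideal.add_mem _ (Ideal.mul_mem_mul (smul_mem_maximalIdeal g ha) (hmem b)) (Ideal.mul_mem_mul hb (hmem a))
  have hkey : ∀ b : R, g • b - b ∈ m ^ 2 → g • b - b ∈ m * I := by
    intro b hb
    let H := Subgroup.zpowers g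
    haveI := Fintype.ofFinite H
    have hH : (Fintype.card H : k) ≠ 0 := by
      intro h0
      apply hG
      obtain ⟨c, hc⟩ := Subgroup.card_subgroup_dvd_card H
      rw [Nat.card_eq_fintype_card (α := H)] at hc
      rw [hc, Nat.cast_mul, h0, zero_mul]
    have hpow : ∀ h : H, (h : G) • b - b ∈ m ^ 2 := by
      rintro ⟨h, hh⟩
      obtain ⟨n, rfl⟩ := mem_powers_iff_mem_zpowers.mpr hh
      show g ^ n • b - b ∈ m ^ 2
      induction n with
      | zero => simp
      | succ n ih =>
        rw [pow_succ' g n, mul_smul, show g • g ^ n • b - b = g • (g ^ n • b - b) + (g • b - b) by rw [smul_sub]; ring]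
        exact Ideal.add_mem _ (smul_mem_pow g 2 (ih (mem_powers_iff_mem_zpowers.mp ⟨n, rfl⟩))) hb
    set β := avg (k := k) (G := H) b
    have hfix : g • β = β := (avg_mem (k := k) (G := H) b) ⟨g, Subgroup.mem_zpowers g⟩
    have h2 : β - b ∈ m ^ 2 := avg_sub_self_mem hH fun h => hpow h
    have h3 := (m * I).neg_mem (hsq _ h2)
    rwa [smul_sub, hfix, neg_sub, show β - b - (β - g • b) = g • b - b by ring] at h3
  by_cases hall : ∀ a, g • a - a ∈ m ^ 2
  · left
    have hIbot : I = ⊥ := Submodule.eq_bot_of_le_smul_of_le_jacobson_bot m I (IsNoetherian.noetherian _)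
      (Ideal.span_le.mpr (by rintro _ ⟨a, rfl⟩; exact hkey a (hall a))) (maximalIdeal_le_jacobson _)
    intro a
    exact sub_eq_zero.mp (Ideal.mem_bot.mp (hIbot ▸ hmem a))
  push Not at hall
  obtain ⟨a₀, ha₀⟩ := hall
  obtain ⟨c₀, hc₀⟩ := hl₀ a₀
  have hc₀0 : c₀ ≠ 0 := fun h => ha₀ (by rwa [h, zero_smul, sub_zero] at hc₀)
  set l := g • a₀ - a₀
  refine Or.inr ⟨l, fun h => ha₀ (by rw [show l = 0 from h]; exact Submodule.zero_mem _), hIm (hmem a₀), fun a => ?_⟩
  have hIl : I ≤ Ideal.span {l} ⊔ m * I := by
    refine Ideal.span_le.mpr ?_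
    rintro _ ⟨b, rfl⟩
    obtain ⟨c, hc⟩ := hl₀ b
    set d := c / c₀
    have hb : g • (b - d • a₀) - (b - d • a₀) = g • b - b - d • l := by
      rw [smul_sub, smul_comm g d a₀, smul_sub]; abel
    have h1 : g • (b - d • a₀) - (b - d • a₀) ∈ m ^ 2 := by
      have e : c • l₀ = d • (c₀ • l₀) := by rw [smul_smul, div_mul_cancel₀ _ hc₀0]
      rw [hb, show g • b - b - d • l = (g • b - b - c • l₀) - d • (l - c₀ • l₀) by rw [e]; simp only [l, smul_sub]; abel]
      exact Ideal.sub_mem _ hc (Submodule.smul_of_tower_mem _ d hc₀)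
    have h2 := hkey _ h1
    rw [hb] at h2
    rw [SetLike.mem_coe, show (fun a => g • a - a) b = d • l + (g • b - b - d • l) by abel]
    exact Submodule.add_mem_sup (Submodule.smul_of_tower_mem _ d (Ideal.mem_span_singleton_self l)) h2
  exact Ideal.mem_span_singleton.mp
    (Submodule.le_of_le_smul_of_le_jacobson_bot (IsNoetherian.noetherian I) (maximalIdeal_le_jacobson _) hIl (hmem a))

variable (k G) in
/-- The ideal generated by the invariants which are not units. -/
def invIdeal : Ideal R := Ideal.span {y : R | y ∈ S ∧ y ∈ maximalIdeal R}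

theorem smul_mem_invIdeal (g : G) {a : R} (ha : a ∈ invIdeal k G (R := R)) : g • a ∈ invIdeal k G (R := R) := by
  induction ha using Submodule.span_induction with
  | mem y hy => rw [hy.1 g]; exact Ideal.subset_span hy
  | zero => simp
  | add a b _ _ ha hb => rw [smul_add]; exact Ideal.add_mem _ ha hb
  | smul c a _ ha => rw [smul_eq_mul, smul_mul']; exact Ideal.mul_mem_left _ _ ha

theorem isUnit_subalgebra {a : ↥(S : Subalgebra k R)} (ha : IsUnit (a : R)) : IsUnit a := by
  obtain ⟨u, hu⟩ := ha
  have hinv : ((u⁻¹ : Rˣ) : R) ∈ (S : Subalgebra k R) := fun g => by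
    apply u.isUnit.mul_left_cancel
    rw [Units.mul_inv]
    conv_lhs => rw [show (u : R) = g • (u : R) by rw [hu, a.2 g], ← smul_mul', Units.mul_inv, smul_one]
  exact IsUnit.of_mul_eq_one ⟨_, hinv⟩ (Subtype.ext (by show (a : R) * _ = 1; rw [← hu, Units.mul_inv]))

theorem exists_pow_le [IsNoetherianRing R] : ∃ N, maximalIdeal R ^ N ≤ invIdeal k G (R := R) := by
  classical
  haveI := Fintype.ofFinite G
  refine Ideal.exists_pow_le_of_le_radical_of_fg (fun f hf => ?_) (IsNoetherian.noetherian _)
  let P : Polynomial R := prodXSubSMul G R f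
  have hP : P.eval f = 0 := prodXSubSMul.eval G R f
  have hm : P.Monic := prodXSubSMul.monic G R f
  have hmap : P.map (residue R) = Polynomial.X ^ Fintype.card (G ⧸ MulAction.stabilizer G f) := by
    show (prodXSubSMul G R f).map (residue R) = _
    rw [prodXSubSMul, Polynomial.map_prod, ← Finset.card_univ, ← Finset.prod_const]
    refine Finset.prod_congr rfl fun q _ => ?_
    induction q using QuotientGroup.induction_on with
    | H g =>
      rw [Polynomial.map_sub, Polynomial.map_X, Polynomial.map_C, MulAction.ofQuotientStabilizer_mk,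
        (residue_eq_zero_iff _).mpr (smul_mem_maximalIdeal g hf), map_zero, sub_zero]
  refine ⟨P.natDegree, ?_⟩
  rw [Polynomial.eval_eq_sum_range, Finset.sum_range_succ, hm.coeff_natDegree, one_mul] at hP
  rw [eq_neg_of_add_eq_zero_right hP]
  refine neg_mem (Ideal.sum_mem _ fun i hi => Ideal.mul_mem_right _ _ (Ideal.subset_span ⟨fun g => ?_, ?_⟩))
  · exact (prodXSubSMul.coeff G R f g i).symm ▸ rfl
  · rw [← residue_eq_zero_iff, ← Polynomial.coeff_map, hmap, Polynomial.coeff_X_pow, if_neg]
    rw [Finset.mem_range] at hi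
    have hd : P.natDegree = Fintype.card (G ⧸ MulAction.stabilizer G f) := by
      rw [← hm.natDegree_map (residue R), hmap, Polynomial.natDegree_X_pow]
    omega

theorem flat_and_isRegularLocalRing [IsRegularLocalRing R]
    (hx : Function.Surjective ((residue R).comp (algebraMap k R))) (hG : (Nat.card G : k) ≠ 0)
    [Module.Finite ↥(S : Subalgebra k R) R]
    (hgen : Subgroup.closure {g : G | ∃ l₀ : R, ∀ a : R, ∃ c : k, g • a - a - c • l₀ ∈ maximalIdeal R ^ 2} = ⊤) :
    Module.Flat ↥(S : Subalgebra k R) R ∧ IsRegularLocalRing ↥(S : Subalgebra k R) := by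
  classical
  haveI := Fintype.ofFinite G
  haveI : IsDomain R := RegLoc6.isDomain_of_isRegularLocalRing R
  have hGc : (Fintype.card G : k) ≠ 0 := by rwa [← Nat.card_eq_fintype_card]
  set J : Ideal R := invIdeal k G
  have hJm : J ≤ maximalIdeal R := Ideal.span_le.mpr fun y hy => hy.2
  haveI : IsLocalRing ↥(S : Subalgebra k R) := IsLocalRing.of_nonunits_add fun a b ha hb h => by
    refine (maximalIdeal.isMaximal R).ne_top (Ideal.eq_top_of_isUnit_mem _ (?_ : (a : R) + b ∈ _)
      (h.map (S : Subalgebra k R).val))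
    exact Ideal.add_mem _ ((mem_maximalIdeal _).mpr fun hu => ha (isUnit_subalgebra hu))
      ((mem_maximalIdeal _).mpr fun hu => hb (isUnit_subalgebra hu))
  haveI : IsNoetherianRing ↥(S : Subalgebra k R) :=
    isNoetherian_iff'.mpr ((StrictMono.wellFoundedGT (β := Ideal R)
      (f := Ideal.map (S : Subalgebra k R).val.toRingHom)) fun I I' hII => by
      refine lt_of_le_of_ne (Ideal.map_mono hII.le) fun heq => hII.ne (le_antisymm hII.le fun s hs => ?_)
      have key : ∀ x ∈ Ideal.map (S : Subalgebra k R).val.toRingHom I, ∀ c : R,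
          ∃ j ∈ I, (j : R) = avg (k := k) (G := G) (c * x) := by
        intro x hx
        induction hx using Submodule.span_induction with
        | mem x hx =>
          obtain ⟨j, hj, rfl⟩ := hx
          exact fun c => ⟨⟨_, avg_mem c⟩ * j, I.mul_mem_left _ hj, (avg_mul c j.2).symm⟩
        | zero => exact fun c => ⟨0, I.zero_mem, by simp⟩
        | add x y _ _ hx hy =>
          intro c
          obtain ⟨a, ha, hax⟩ := hx c
          obtain ⟨b, hb, hby⟩ := hy c
          exact ⟨a + b, I.add_mem ha hb, by rw [mul_add, map_add, ← hax, ← hby]; rfl⟩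
        | smul r x _ hx => intro c; rw [smul_eq_mul, ← mul_assoc]; exact hx _
      obtain ⟨j, hj, hjs⟩ := key (s : R) (heq ▸ Ideal.mem_map_of_mem _ hs) 1
      have hfix : avg (k := k) (G := G) (s : R) = s := by
        have h0 : avg (k := k) (G := G) (s : R) - s ∈ (⊥ : Ideal R) :=
          avg_sub_self_mem hGc fun g => by rw [s.2 g, sub_self]; exact Submodule.zero_mem _
        exact sub_eq_zero.mp (Ideal.mem_bot.mp h0)
      rw [one_mul, hfix] at hjs
      rwa [← Subtype.ext hjs])
  have hSJ : ∀ {a : ↥(S : Subalgebra k R)}, a ∈ maximalIdeal ↥(S : Subalgebra k R) → (a : R) ∈ J := fun {a} ha =>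
    Ideal.subset_span ⟨a.2, (mem_maximalIdeal _).mpr fun hu => ha (isUnit_subalgebra hu)⟩
  -- the key lemma
  have key : ∀ (N : ℕ) {n : ℕ} (f : Fin n → ↥(S : Subalgebra k R)) (h : Fin n → R),
      ∑ j, (f j : R) * h j = 0 → ∀ i, f i ∉ Ideal.span (f '' {j | j ≠ i}) → h i ∈ J ⊔ maximalIdeal R ^ N := by
    intro N
    induction N with
    | zero => intros; rw [pow_zero, Ideal.one_eq_top, sup_top_eq]; exact Submodule.mem_top
    | succ N ih =>
      intro n f h hrel i hi
      set J' := J ⊔ maximalIdeal R ^ (N + 1)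
      have hsum : ∑ j, avg (k := k) (G := G) (h j) * (f j : R) = 0 := by
        rw [← map_zero (avg (k := k) (G := G) : R →ₗ[k] R), ← hrel, map_sum]
        exact Finset.sum_congr rfl fun j _ => by rw [mul_comm (f j : R), avg_mul _ (f j).2]
      have hm : avg (k := k) (G := G) (h i) ∈ maximalIdeal R := by
        rw [mem_maximalIdeal, mem_nonunits_iff]
        intro hu
        obtain ⟨u, hu'⟩ := isUnit_subalgebra (a := ⟨_, avg_mem (h i)⟩) hu
        refine hi ?_
        have h1 : ∑ j, (⟨_, avg_mem (h j)⟩ : ↥(S : Subalgebra k R)) * f j = 0 :=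
          Subtype.ext (by rw [AddSubmonoidClass.coe_finsetSum]; exact hsum)
        rw [← Finset.add_sum_erase _ _ (Finset.mem_univ i), ← hu'] at h1
        have h2 : f i = ↑u⁻¹ * -∑ j ∈ Finset.univ.erase i, (⟨_, avg_mem (h j)⟩ : ↥(S : Subalgebra k R)) * f j := by
          rw [← eq_neg_of_add_eq_zero_left h1, Units.inv_mul_cancel_left]
        rw [h2]
        exact Ideal.mul_mem_left _ _ (neg_mem (Ideal.sum_mem _ fun j hj =>
          Ideal.mul_mem_left _ _ (Ideal.subset_span ⟨j, (Finset.mem_erase.mp hj).1, rfl⟩)))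
      have hstable : ∀ (g : G) {a : R}, a ∈ J' → g • a ∈ J' := by
        intro g a ha
        obtain ⟨p, hp, r, hr, rfl⟩ := Submodule.mem_sup.mp ha
        rw [smul_add]
        exact Submodule.add_mem_sup (smul_mem_invIdeal g hp) (smul_mem_pow g _ hr)
      have hall : ∀ g : G, g • h i - h i ∈ J' := by
        intro g
        induction (hgen ▸ Subgroup.mem_top g : g ∈ Subgroup.closure _) using Subgroup.closure_induction with
        | mem g hg =>
          rcases exists_param hx hG g hg with htriv | ⟨l, hl0, hlm, hl⟩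
          · rw [htriv, sub_self]; exact Submodule.zero_mem _
          choose u hu using fun j => hl (h j)
          have h0 : ∑ j, (f j : R) * u j = 0 := by
            refine (mul_eq_zero.mp (show l * ∑ j, (f j : R) * u j = 0 from ?_)).resolve_left hl0
            have hg0 : ∑ j, (f j : R) * (g • h j - h j) = 0 := by
              simp only [mul_sub, Finset.sum_sub_distrib, hrel, sub_zero]
              have := congrArg (g • ·) hrel
              simp only [Finset.smul_sum, smul_mul', show ∀ j, g • (f j : R) = f j from fun j => (f j).2 g, smul_zero] at this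
              exact this
            rw [← hg0, Finset.mul_sum]
            exact Finset.sum_congr rfl fun j _ => by rw [hu j]; ring
          obtain ⟨p, hp, r, hr, hpr⟩ := Submodule.mem_sup.mp (ih f u h0 i hi)
          rw [hu i, ← hpr, mul_add]
          exact Submodule.add_mem_sup (Ideal.mul_mem_left _ _ hp) (by rw [pow_succ']; exact Ideal.mul_mem_mul hlm hr)
        | one => rw [one_smul, sub_self]; exact Submodule.zero_mem _
        | mul a b _ _ ha hb =>
          rw [mul_smul, show a • b • h i - h i = a • (b • h i - h i) + (a • h i - h i) by rw [smul_sub]; ring]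
          exact Ideal.add_mem _ (hstable a hb) ha
        | inv a _ ha =>
          rw [show a⁻¹ • h i - h i = -(a⁻¹ • (a • h i - h i)) by rw [smul_sub, inv_smul_smul]; ring]
          exact neg_mem (hstable _ ha)
      have h2 := J'.sub_mem (le_sup_left (a := J) (Ideal.subset_span ⟨avg_mem (h i), hm⟩))
        (avg_sub_self_mem hGc hall)
      rwa [sub_sub_cancel] at h2
  obtain ⟨N₀, hN₀⟩ := exists_pow_le (k := k) (G := G) (R := R)
  -- a basis
  let q : R →ₗ[k] R ⧸ J := (Ideal.Quotient.mkₐ k J).toLinearMap
  obtain ⟨c, hc⟩ : ∃ c : ↥(S : Subalgebra k R) → k, ∀ a : ↥(S : Subalgebra k R), (a : R) - algebraMap k R (c a) ∈ J := by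
    choose c hc using fun a : ↥(S : Subalgebra k R) => hx (residue R (a : R))
    refine ⟨c, fun a => hSJ (a := a - algebraMap k _ (c a)) ((mem_maximalIdeal _).mpr fun hu => ?_)⟩
    have hu' : IsUnit ((a : R) - algebraMap k R (c a)) := hu.map (S : Subalgebra k R).val
    rw [← residue_ne_zero_iff_isUnit] at hu'
    exact hu' (by rw [map_sub, sub_eq_zero]; exact (hc a).symm)
  have hcq : ∀ (a : ↥(S : Subalgebra k R)) (y : R), q (a • y) = c a • q y := fun a y => by
    rw [← map_smul, Algebra.smul_def (c a)]
    refine Ideal.Quotient.eq.mpr ?_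
    show (a : R) * y - _ ∈ J
    rw [← sub_mul]
    exact Ideal.mul_mem_right _ _ (hc a)
  obtain ⟨gens, hgens⟩ := Module.Finite.fg_top (R := ↥(S : Subalgebra k R)) (M := R)
  haveI : Module.Finite k (R ⧸ J) := by
    refine ⟨⟨gens.image q, eq_top_iff.mpr ?_⟩⟩
    rintro z -
    obtain ⟨r, rfl⟩ := Ideal.Quotient.mk_surjective z
    have hr : r ∈ Submodule.span ↥(S : Subalgebra k R) (gens : Set R) := hgens ▸ Submodule.mem_top
    induction hr using Submodule.span_induction with
    | mem y hy => exact Submodule.subset_span (Finset.mem_image_of_mem q hy)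
    | zero => simp
    | add a b _ _ ha hb => rw [map_add]; exact Submodule.add_mem _ ha hb
    | smul a y _ hy => rw [show Ideal.Quotient.mk J (a • y) = c a • q y from hcq a y]; exact Submodule.smul_mem _ _ hy
  let b := Module.finBasis k (R ⧸ J)
  choose e he using fun j => Ideal.Quotient.mk_surjective (b j)
  have hli : LinearIndependent ↥(S : Subalgebra k R) e := by
    refine Fintype.linearIndependent_iff.mpr fun a ha j => ?_
    obtain ⟨F, hF, hmin⟩ := ((Finset.univ : Finset (Finset _)).filter fun F : Finset _ =>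
      ∀ j, a j ∈ Ideal.span (a '' (SetLike.coe F))).exists_min_image Finset.card
      ⟨Finset.univ, Finset.mem_filter.mpr ⟨Finset.mem_univ _, fun j => Ideal.subset_span ⟨j, Finset.mem_coe.mpr (Finset.mem_univ j), rfl⟩⟩⟩
    replace hF := (Finset.mem_filter.mp hF).2
    rcases F.eq_empty_or_nonempty with hFe | ⟨i₀, hi₀⟩
    · have := hF j
      rwa [hFe, Finset.coe_empty, Set.image_empty, Ideal.span_empty, Ideal.mem_bot] at this
    exfalso
    have hC : ∀ j, ∃ C : _ → ↥(S : Subalgebra k R), a j = ∑ i ∈ F, C i * a i ∧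
        (j ∈ F → ∀ i, C i = if i = j then 1 else 0) := fun j => by
      by_cases hj : j ∈ F
      · exact ⟨fun i => if i = j then 1 else 0, by simp [hj], fun _ i => rfl⟩
      · obtain ⟨l, hl, hla⟩ := (Finsupp.mem_span_image_iff_linearCombination _).mp (hF j)
        refine ⟨fun i => l i, ?_, fun h => absurd h hj⟩
        rw [← hla, Finsupp.linearCombination_apply,
          Finsupp.sum_of_support_subset l (Finset.coe_subset.mp ((Finsupp.mem_supported _ l).mp hl)) (fun i y => y • a i) (fun i _ => zero_smul _ _)]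
        rfl
    choose C hC hdiag using hC
    let f : Fin _ → ↥(S : Subalgebra k R) := fun i => if i ∈ F then a i else 0
    let h : Fin _ → R := fun i => ∑ j, C j i • e j
    have hrel : ∑ i, (f i : R) * h i = 0 := by
      rw [← ha, ← Finset.sum_subset (Finset.subset_univ F) (fun i _ hi => by simp [f, hi]),
        Finset.sum_congr rfl (fun i hi => show (f i : R) * h i = ∑ j, (C j i * a i) • e j by
          simp only [f, if_pos hi, h, Finset.mul_sum]
          exact Finset.sum_congr rfl fun j _ => by rw [mul_comm (C j i), mul_smul]; rfl), Finset.sum_comm]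
      exact Finset.sum_congr rfl fun j _ => by rw [← Finset.sum_smul, ← hC]
    have hind : f i₀ ∉ Ideal.span (f '' {j | j ≠ i₀}) := by
      intro hmem
      have hle : Ideal.span (a '' (SetLike.coe F)) ≤ Ideal.span (a '' (SetLike.coe (F.erase i₀))) := by
        refine Ideal.span_le.mpr ?_
        rintro _ ⟨i, hi, rfl⟩
        by_cases hii : i = i₀
        · rw [SetLike.mem_coe, hii, ← show f i₀ = a i₀ from if_pos hi₀]
          refine (Ideal.span_le.mpr ?_) hmem
          rintro _ ⟨j, hj, rfl⟩
          by_cases hjF : j ∈ F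
          · rw [show f j = a j from if_pos hjF]
            exact Ideal.subset_span ⟨j, Finset.mem_erase.mpr ⟨hj, hjF⟩, rfl⟩
          · rw [show f j = 0 from if_neg hjF]
            exact Submodule.zero_mem _
        · exact Ideal.subset_span ⟨i, Finset.mem_erase.mpr ⟨hii, hi⟩, rfl⟩
      have h2 := hmin (F.erase i₀) (Finset.mem_filter.mpr ⟨Finset.mem_univ _, fun j => hle (hF j)⟩)
      rw [Finset.card_erase_of_mem hi₀] at h2
      have := Finset.card_pos.mpr ⟨i₀, hi₀⟩
      omega
    have hJ : h i₀ ∈ J := by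
      have := key N₀ f h hrel i₀ hind
      rwa [sup_eq_left.mpr hN₀] at this
    have h0 : ∑ j, c (C j i₀) • b j = 0 := by
      rw [← show q (h i₀) = 0 from Ideal.Quotient.eq_zero_iff_mem.mpr hJ, map_sum]
      exact Finset.sum_congr rfl fun j _ => by rw [hcq, ← he]; rfl
    have h1 := Fintype.linearIndependent_iff.mp b.linearIndependent _ h0 i₀
    rw [hdiag i₀ hi₀ i₀, if_pos rfl] at h1
    have h2 := hc 1
    rw [h1, map_zero, sub_zero] at h2
    exact (maximalIdeal.isMaximal R).ne_top ((Ideal.eq_top_iff_one _).mpr (hJm h2))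
  have hsp : ⊤ ≤ Submodule.span ↥(S : Subalgebra k R) (Set.range e) := by
    refine Submodule.le_of_le_smul_of_le_jacobson_bot (N := Submodule.span _ (Set.range e))
      Module.Finite.fg_top (maximalIdeal_le_jacobson (R := ↥(S : Subalgebra k R)) _) fun y _ => ?_
    obtain ⟨γ, hγ⟩ := (Submodule.mem_span_range_iff_exists_fun k).mp (b.span_eq ▸ Submodule.mem_top (x := q y))
    rw [show y = (∑ j, γ j • e j) + (y - ∑ j, γ j • e j) by abel]
    refine Submodule.add_mem_sup (Submodule.sum_mem _ fun j _ =>
      Submodule.smul_of_tower_mem _ (γ j) (Submodule.subset_span ⟨j, rfl⟩)) ?_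
    have hyJ : y - ∑ j, γ j • e j ∈ J := by
      rw [← Ideal.Quotient.eq_zero_iff_mem, map_sub, sub_eq_zero, map_sum]
      refine hγ.symm.trans (Finset.sum_congr rfl fun j _ => ?_)
      rw [← he]
      exact (map_smul q (γ j) (e j)).symm
    generalize y - ∑ j, γ j • e j = w at hyJ ⊢
    suffices h : ∀ r : R, r * w ∈
        (maximalIdeal ↥(S : Subalgebra k R)) • (⊤ : Submodule ↥(S : Subalgebra k R) R) by simpa using h 1
    induction hyJ using Submodule.span_induction with
    | mem z hz =>
      intro r
      rw [show r * z = (⟨z, hz.1⟩ : ↥(S : Subalgebra k R)) • r by rw [mul_comm]; rfl]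
      exact Submodule.smul_mem_smul ((mem_maximalIdeal _).mpr fun hu =>
        (mem_maximalIdeal _).mp hz.2 (hu.map (S : Subalgebra k R).val)) Submodule.mem_top
    | zero => intro r; simp
    | add z w _ _ hz hw => intro r; rw [mul_add]; exact Submodule.add_mem _ (hz r) (hw r)
    | smul d z _ hz => intro r; rw [smul_eq_mul, ← mul_assoc]; exact hz _
  haveI : Module.Free ↥(S : Subalgebra k R) R := Module.Free.of_basis (Module.Basis.mk hli hsp)
  haveI : IsLocalHom (algebraMap ↥(S : Subalgebra k R) R) := ⟨fun a ha => isUnit_subalgebra ha⟩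
  exact ⟨inferInstance, RegLoc6.isRegularLocalRing_of_flat (B := R)⟩

end Groth.Agent.PsReflLib.Const
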