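import Groth.Agent.PsReflLib.KeyLemma
import Groth.Agent.ComodLib.Invariants
import Mathlib.LinearAlgebra.Charpoly.ToMatrix
import Mathlib.RingTheory.Nakayama
import Mathlib.RingTheory.Localization.FractionRing
import Mathlib.RingTheory.Localization.Integer

/-!
# Freeness over the invariants at a fixed point
-/

universe u

open TensorProduct

namespace Groth.Agent.PsReflLib

open Groth.Agent.ComodLib

variable {k : Type u} [Field k] {A : Type u} [CommRing A] [HopfAlgebra k A]
variable {R : Type u} [CommRing R] [Algebra k R] [HopfRep.Comod k A R] [GLin.IsCoactAlg k A R]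

theorem finite_over_invariants [Module.Finite k A] [Algebra.FiniteType k R] :
    Module.Finite (GLin.invariants k A R) R := by
  haveI := FinQuotLib.isIntegral_invariants (k := k) (H := A) (R := R)
  haveI : Algebra.FiniteType (GLin.invariants k A R) R := Algebra.FiniteType.of_restrictScalars_finiteType k _ _
  exact Algebra.IsIntegral.finite

theorem finite_quotient_invIdeal [Module.Finite k A] [Algebra.FiniteType k R] (x : R →ₐ[k] k) :
    Module.Finite k (R ⧸ invIdeal A x) := by
  obtain ⟨s, hs⟩ := (finite_over_invariants (k := k) (A := A) (R := R)).fg_top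
  classical
  refine ⟨⟨s.image (Ideal.Quotient.mkₐ k (invIdeal A x)), ?_⟩⟩
  rw [Finset.coe_image, eq_top_iff]
  rintro y -
  obtain ⟨r, rfl⟩ := Ideal.Quotient.mk_surjective y
  have hr : r ∈ Submodule.span (GLin.invariants k A R) (s : Set R) := hs ▸ Submodule.mem_top
  induction hr using Submodule.span_induction with
  | mem z hz => exact Submodule.subset_span ⟨z, hz, rfl⟩
  | zero => simp
  | add a b _ _ ha hb => rw [map_add]; exact Submodule.add_mem _ ha hb
  | smul c a _ ha =>
    have h : Ideal.Quotient.mk (invIdeal A x) (c • a) = x (c : R) • Ideal.Quotient.mk (invIdeal A x) a := by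
      show Ideal.Quotient.mk _ ((c : R) * a) = _
      rw [map_mul, Ideal.Quotient.eq.mpr (sub_algebraMap_mem_invIdeal x c.2), Ideal.Quotient.mk_algebraMap,
        Algebra.smul_def]
    rw [h]
    exact Submodule.smul_mem _ _ ha

/-- A fixed point is the only point over its image. -/
theorem exists_ker_pow_le [Module.Finite k A] [IsNoetherianRing R] {x : R →ₐ[k] k} (hx : GLin.IsFixedPt k A x) :
    ∃ N, RingHom.ker x ^ N ≤ invIdeal A x := by
  refine Ideal.exists_pow_le_of_le_radical_of_fg (fun f hf => ?_) (IsNoetherian.noetherian _)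
  set P := FinQuotLib.cp k (GLin.coactAlgHom k A R f)
  have h1 : FinQuotLib.cp k (Algebra.TensorProduct.map x (AlgHom.id k A) (GLin.coactAlgHom k A R f)) =
      P.map x.toRingHom := FinQuotLib.cp_map x _
  have h2 : Algebra.TensorProduct.map x (AlgHom.id k A) (GLin.coactAlgHom k A R f) = 0 := by
    apply (Algebra.TensorProduct.lid k A).injective
    have h := AlgHom.congr_fun hx f
    rw [AlgHom.comp_apply, RingHom.mem_ker.mp hf, map_zero] at h
    rw [map_zero]
    exact h
  have h3 : P.map x.toRingHom = Polynomial.X ^ Module.finrank k (k ⊗[k] A) := by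
    rw [← h1, h2, FinQuotLib.cp, map_zero, LinearMap.charpoly_zero]
  have hm : P.Monic := LinearMap.charpoly_monic _
  have hdeg : P.natDegree = Module.finrank k (k ⊗[k] A) := by
    rw [← hm.natDegree_map x.toRingHom, h3, Polynomial.natDegree_X_pow]
  refine ⟨P.natDegree, ?_⟩
  have h4 := FinQuotLib.eval_cp_coact (k := k) (H := A) f
  rw [show FinQuotLib.cp k (GLin.coactAlgHom k A R f) = P from rfl, Polynomial.eval_eq_sum_range,
    Finset.sum_range_succ, hm.coeff_natDegree, one_mul] at h4
  rw [eq_neg_of_add_eq_zero_right h4]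
  refine neg_mem (Ideal.sum_mem _ fun i hi => Ideal.mul_mem_right _ _ (Ideal.subset_span ⟨?_, ?_⟩))
  · exact FinQuotLib.coeff_cp_coact_mem f i
  · show x.toRingHom (P.coeff i) = 0
    rw [← Polynomial.coeff_map, h3, Polynomial.coeff_X_pow, if_neg]
    rw [Finset.mem_range, hdeg] at hi
    omega

theorem mem_invIdeal_of_isIndep [Module.Finite k A] [IsNoetherianRing R] (hG : HopfRep.IsLinearlyReductive k A)
    (hsub : ∀ (I : Ideal A) [I.IsHopfIdeal k], HopfRep.IsLinearlyReductive k (A ⧸ I))
    {x : R →ₐ[k] k} (hx : GLin.IsFixedPt k A x) (hgen : GLin.IsGenByPseudoReflAt k A R x)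
    (hdom : ∀ a b : R, a ∉ RingHom.ker x ^ 2 → a * b = 0 → ∃ t, x t ≠ 0 ∧ t * b = 0) {n : ℕ} {f h : Fin n → R}
    (hf : ∀ j, f j ∈ GLin.invariants k A R) (hrel : ∑ j, f j * h j = 0) {i : Fin n} (hi : IsIndep A x f i) :
    h i ∈ invIdeal A x := by
  obtain ⟨N, hN⟩ := exists_ker_pow_le (A := A) hx
  have h1 := mem_invIdeal_sup_pow hG hsub hx hgen hdom N f h hf hrel i hi
  rwa [sup_eq_left.mpr hN] at h1

/-- Lifts of a basis modulo `invIdeal` satisfy no relation over the invariants near the point. -/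
theorem exists_mul_eq_zero_of_relation [Module.Finite k A] [IsNoetherianRing R] (hG : HopfRep.IsLinearlyReductive k A)
    (hsub : ∀ (I : Ideal A) [I.IsHopfIdeal k], HopfRep.IsLinearlyReductive k (A ⧸ I))
    {x : R →ₐ[k] k} (hx : GLin.IsFixedPt k A x) (hgen : GLin.IsGenByPseudoReflAt k A R x)
    (hdom : ∀ a b : R, a ∉ RingHom.ker x ^ 2 → a * b = 0 → ∃ t, x t ≠ 0 ∧ t * b = 0) {r : ℕ} {e : Fin r → R}
    (he : LinearIndependent k fun j => Ideal.Quotient.mk (invIdeal A x) (e j)) {a : Fin r → R}
    (ha : ∀ j, a j ∈ GLin.invariants k A R) (hrel : ∑ j, a j * e j = 0) (j : Fin r) :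
    ∃ s ∈ GLin.invariants k A R, x s ≠ 0 ∧ s * a j = 0 := by
  classical
  let Gen : Finset (Fin r) → Prop := fun F => ∀ j, ∃ s ∈ GLin.invariants k A R, x s ≠ 0 ∧
    ∃ c : Fin r → R, (∀ i, c i ∈ GLin.invariants k A R) ∧ s * a j = ∑ i ∈ F, c i * a i
  have huniv : Gen Finset.univ := fun j => by
    refine ⟨1, one_mem _, by simp, fun i => if i = j then 1 else 0, fun i => ?_, ?_⟩
    · show (if i = j then (1 : R) else 0) ∈ _
      split <;> simp [one_mem, zero_mem]
    · simp
  obtain ⟨F, hF, hmin⟩ := ((Finset.univ : Finset (Finset (Fin r))).filter Gen).exists_min_image Finset.card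
    ⟨_, Finset.mem_filter.mpr ⟨Finset.mem_univ _, huniv⟩⟩
  replace hF : Gen F := (Finset.mem_filter.mp hF).2
  rcases F.eq_empty_or_nonempty with hFe | ⟨i₀, hi₀⟩
  · obtain ⟨s, hs, hs0, c, -, hc⟩ := hF j
    exact ⟨s, hs, hs0, by rw [hc, hFe, Finset.sum_empty]⟩
  exfalso
  have hC : ∀ j, ∃ s ∈ GLin.invariants k A R, x s ≠ 0 ∧ ∃ c : Fin r → R, (∀ i, c i ∈ GLin.invariants k A R) ∧
      s * a j = ∑ i ∈ F, c i * a i ∧ (j ∈ F → ∀ i, c i = if i = j then s else 0) := fun j => by
    by_cases hj : j ∈ F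
    · refine ⟨1, one_mem _, by simp, fun i => if i = j then 1 else 0, fun i => ?_, ?_, fun _ i => rfl⟩
      · show (if i = j then (1 : R) else 0) ∈ _
        split <;> simp [one_mem, zero_mem]
      · simp [hj]
    · obtain ⟨s, hs, hs0, c, hc, hsc⟩ := hF j
      exact ⟨s, hs, hs0, c, hc, hsc, fun h => absurd h hj⟩
  choose s hs hs0 c hc hsc hdiag using hC
  let p : Fin r → R := fun j => ∏ m ∈ Finset.univ.erase j, s m
  have hp : ∀ j, p j ∈ GLin.invariants k A R := fun j => Subalgebra.prod_mem _ fun m _ => hs m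
  have hps : ∀ j, p j * s j = ∏ m, s m := fun j => Finset.prod_erase_mul _ _ (Finset.mem_univ j)
  let f : Fin r → R := fun i => if i ∈ F then a i else 0
  let h : Fin r → R := fun i => ∑ j, p j * c j i * e j
  have hf : ∀ i, f i ∈ GLin.invariants k A R := fun i => by
    show (if i ∈ F then a i else 0) ∈ _
    split <;> simp [ha, zero_mem]
  have hrel' : ∑ i, f i * h i = 0 := by
    rw [← mul_zero (∏ m, s m), ← hrel, Finset.mul_sum]
    rw [← Finset.sum_subset (Finset.subset_univ F) (fun i _ hi => by simp [f, hi]),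
      Finset.sum_congr rfl (fun i hi => show f i * h i = a i * ∑ j, p j * c j i * e j by simp [f, h, hi])]
    simp only [Finset.mul_sum]
    rw [Finset.sum_comm]
    refine Finset.sum_congr rfl fun j _ => ?_
    rw [← mul_assoc, ← hps j, mul_assoc (p j), hsc j, Finset.mul_sum, Finset.sum_mul]
    exact Finset.sum_congr rfl fun i _ => by ring
  have hind : IsIndep A x f i₀ := by
    intro σ hσ hσ0 d hd hsum
    have hle := hmin (F.erase i₀) (Finset.mem_filter.mpr ⟨Finset.mem_univ _, fun j => ?_⟩)
    · rw [Finset.card_erase_of_mem hi₀] at hle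
      have := Finset.card_pos.mpr ⟨i₀, hi₀⟩
      omega
    obtain ⟨t, ht, ht0, g, hg, hgj⟩ := hF j
    refine ⟨σ * t, mul_mem hσ ht, by rw [map_mul]; exact mul_ne_zero hσ0 ht0, fun i => σ * g i + g i₀ * d i,
      fun i => add_mem (mul_mem hσ (hg i)) (mul_mem (hg i₀) (hd i)), ?_⟩
    have hsum' : σ * a i₀ = ∑ i ∈ F.erase i₀, d i * a i := by
      have e1 : f i₀ = a i₀ := if_pos hi₀
      rw [← e1, hsum]
      rw [← Finset.sum_subset (Finset.erase_subset_erase i₀ (Finset.subset_univ F)) (fun i hiu hi => by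
        have : i ∉ F := fun hiF => hi (Finset.mem_erase.mpr ⟨(Finset.mem_erase.mp hiu).1, hiF⟩)
        simp [f, this])]
      exact Finset.sum_congr rfl fun i hi => by simp [f, (Finset.mem_erase.mp hi).2]
    rw [mul_assoc, hgj, ← Finset.add_sum_erase _ _ hi₀, mul_add, ← mul_assoc, mul_comm σ (g i₀), mul_assoc, hsum',
      Finset.mul_sum, Finset.mul_sum, ← Finset.sum_add_distrib]
    exact Finset.sum_congr rfl fun i _ => by ring
  have hJ := mem_invIdeal_of_isIndep hG hsub hx hgen hdom hf hrel' hind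
  rw [← Ideal.Quotient.eq_zero_iff_mem, map_sum] at hJ
  have hsc' : ∑ j, x (p j * c j i₀) • Ideal.Quotient.mk (invIdeal A x) (e j) = 0 := by
    rw [← hJ]
    refine Finset.sum_congr rfl fun j _ => ?_
    rw [map_mul (Ideal.Quotient.mk _) (p j * c j i₀), Ideal.Quotient.eq.mpr (sub_algebraMap_mem_invIdeal x (mul_mem (hp j) (hc j i₀))),
      Ideal.Quotient.mk_algebraMap, Algebra.smul_def]
  have h0 := Fintype.linearIndependent_iff.mp he _ hsc' i₀
  rw [hdiag i₀ hi₀ i₀, if_pos rfl, hps, map_prod] at h0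
  exact Finset.prod_ne_zero_iff.mpr (fun m _ => hs0 m) h0

/-- Lifts of a spanning family modulo `invIdeal` span near the point. -/
theorem exists_smul_mem_span [Module.Finite k A] [Algebra.FiniteType k R] {x : R →ₐ[k] k} {r : ℕ} {e : Fin r → R}
    (he : Submodule.span k (Set.range fun j => Ideal.Quotient.mk (invIdeal A x) (e j)) = ⊤) :
    ∃ s : GLin.invariants k A R, x (s : R) ≠ 0 ∧
      ∀ y : R, s • y ∈ Submodule.span (GLin.invariants k A R) (Set.range e) := by
  haveI := finite_over_invariants (k := k) (A := A) (R := R)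
  set M := Submodule.span (GLin.invariants k A R) (Set.range e)
  let q : Ideal (GLin.invariants k A R) := RingHom.ker (x.comp (GLin.invariants k A R).val)
  have hJq : ∀ y ∈ invIdeal A x, y ∈ q • (⊤ : Submodule (GLin.invariants k A R) R) := by
    intro y hy
    suffices h : ∀ c : R, c * y ∈ q • (⊤ : Submodule (GLin.invariants k A R) R) by simpa using h 1
    induction hy using Submodule.span_induction with
    | mem g hg =>
      intro c
      rw [show c * g = (⟨g, hg.1⟩ : GLin.invariants k A R) • c by rw [mul_comm]; rfl]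
      exact Submodule.smul_mem_smul (hg.2 : x g = 0) Submodule.mem_top
    | zero => intro c; simp
    | add a b _ _ ha hb => intro c; rw [mul_add]; exact Submodule.add_mem _ (ha c) (hb c)
    | smul d a _ ha => intro c; rw [smul_eq_mul, ← mul_assoc]; exact ha _
  have hgen : ∀ y : R, ∃ g ∈ M, y - g ∈ invIdeal A x := by
    intro y
    obtain ⟨c, hc⟩ := (Submodule.mem_span_range_iff_exists_fun k).mp
      (he ▸ Submodule.mem_top (x := Ideal.Quotient.mk (invIdeal A x) y))
    refine ⟨∑ j, c j • e j, Submodule.sum_mem _ fun j _ => ?_, ?_⟩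
    · exact Submodule.smul_of_tower_mem M (c j) (Submodule.subset_span ⟨j, rfl⟩)
    · rw [← Ideal.Quotient.eq_zero_iff_mem, map_sub, sub_eq_zero, ← hc, map_sum]
      rfl
  obtain ⟨s, hs, hs0⟩ := Submodule.exists_sub_one_mem_and_smul_eq_zero_of_fg_of_le_smul q
    (⊤ : Submodule (GLin.invariants k A R) (R ⧸ M)) Module.Finite.fg_top (by
      rintro z -
      obtain ⟨y, rfl⟩ := Submodule.mkQ_surjective M z
      obtain ⟨g, hg, hyg⟩ := hgen y
      have h := Submodule.mem_map_of_mem (f := M.mkQ) (hJq _ hyg)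
      rw [Submodule.map_smul''] at h
      rw [show M.mkQ y = M.mkQ (y - g) by rw [map_sub, show M.mkQ g = 0 from (Submodule.Quotient.mk_eq_zero M).mpr hg, sub_zero]]
      exact Submodule.smul_mono le_rfl le_top h)
  refine ⟨s, fun h0 => ?_, fun y => ?_⟩
  · have h1 : x (s : R) - 1 = 0 := by
      have := RingHom.mem_ker.mp hs
      simpa using this
    rw [h0, zero_sub, neg_eq_zero] at h1
    exact one_ne_zero h1
  · rw [← Submodule.Quotient.mk_eq_zero M, Submodule.Quotient.mk_smul]
    exact hs0 _ Submodule.mem_top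

end Groth.Agent.PsReflLib
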