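import Groth.Agent.ComodLib.Push
import Groth.Agent.ComodLib.Invariants
import Groth.Prelude.Def_W4c6stackyreslrsPsRefl
import Groth.Prelude.Def_ComodSub
import Mathlib.RingTheory.HopfAlgebra.Quotient
import Mathlib.RingTheory.HopfAlgebra.Convolution

/-!
# The Hopf ideal of the elements fixing a vector, generated ideals
-/

universe u w

open TensorProduct

namespace Groth.Agent.PsReflLib

open Groth.Agent.ComodLib

variable {k : Type u} [Field k] {A : Type u} [CommRing A] [HopfAlgebra k A]
variable {V : Type w} [AddCommGroup V] [Module k V] [HopfRep.Comod k A V]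

/-- The deviation of a vector from being fixed. -/
noncomputable def dev (v : V) : V ⊗[k] A :=
  HopfRep.Comod.coact (k := k) (A := A) v - v ⊗ₜ[k] (1 : A)

/-- A coordinate of the deviation. -/
noncomputable def devCoord (v : V) (θ : V →ₗ[k] k) : A :=
  TensorProduct.lid k A (θ.rTensor A (dev (k := k) (A := A) v))

theorem mem_fixed_mod_iff (I : Ideal A) (v : V) :
    LinearMap.lTensor V (Ideal.Quotient.mkₐ k I).toLinearMap (HopfRep.Comod.coact (k := k) (A := A) v) =
      v ⊗ₜ[k] (1 : A ⧸ I) ↔ ∀ θ : V →ₗ[k] k, devCoord (A := A) v θ ∈ I := by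
  have e : ∀ (θ : V →ₗ[k] k) (z : V ⊗[k] A), Ideal.Quotient.mkₐ k I (TensorProduct.lid k A (θ.rTensor A z)) =
      TensorProduct.lid k (A ⧸ I) (θ.rTensor (A ⧸ I) (LinearMap.lTensor V (Ideal.Quotient.mkₐ k I).toLinearMap z)) := by
    intro θ z
    induction z using TensorProduct.induction_on with
    | zero => simp
    | tmul a b => simp
    | add p q hp hq => simp only [map_add, hp, hq]
  have h0 : LinearMap.lTensor V (Ideal.Quotient.mkₐ k I).toLinearMap (HopfRep.Comod.coact (k := k) (A := A) v) =
      v ⊗ₜ[k] (1 : A ⧸ I) ↔ LinearMap.lTensor V (Ideal.Quotient.mkₐ k I).toLinearMap (dev (k := k) (A := A) v) = 0 := by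
    rw [dev, map_sub, sub_eq_zero]
    simp
  rw [h0]
  refine ⟨fun h θ => ?_, fun h => ?_⟩
  · rw [← Ideal.Quotient.eq_zero_iff_mem, ← Ideal.Quotient.mkₐ_eq_mk k, devCoord, e, h]
    simp
  · refine eq_zero_of_forall_slice_eq_zero fun φ => (Module.forall_dual_apply_eq_zero_iff k _).mp fun θ => ?_
    have h1 := h θ
    rw [← Ideal.Quotient.eq_zero_iff_mem, ← Ideal.Quotient.mkₐ_eq_mk k, devCoord, e] at h1
    have e2 : ∀ w : V ⊗[k] (A ⧸ I), θ (slice φ w) = φ (TensorProduct.lid k (A ⧸ I) (θ.rTensor (A ⧸ I) w)) := by
      intro w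
      induction w using TensorProduct.induction_on with
      | zero => simp
      | tmul a b => simp [mul_comm]
      | add p q hp hq => simp only [map_add, hp, hq]
    rw [e2, h1, map_zero]

/-- The ideal of the stabiliser of a vector. -/
noncomputable def stab (v : V) : Ideal A := Ideal.span (Set.range (devCoord (k := k) (A := A) v))

theorem stab_le_iff (I : Ideal A) (v : V) : stab (k := k) (A := A) v ≤ I ↔
    LinearMap.lTensor V (Ideal.Quotient.mkₐ k I).toLinearMap (HopfRep.Comod.coact (k := k) (A := A) v) =
      v ⊗ₜ[k] (1 : A ⧸ I) := by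
  rw [mem_fixed_mod_iff, stab, Ideal.span_le]
  exact Set.range_subset_iff

theorem comul_devCoord (v : V) (θ : V →ₗ[k] k) :
    Coalgebra.comul (R := k) (devCoord (A := A) v θ) =
      TensorProduct.lid k (A ⊗[k] A) (θ.rTensor (A ⊗[k] A)
        (TensorProduct.assoc k V A A ((HopfRep.Comod.coact (k := k) (A := A)).rTensor A
          (HopfRep.Comod.coact (k := k) (A := A) v)) - v ⊗ₜ[k] ((1 : A) ⊗ₜ[k] (1 : A)))) := by
  have hc := LinearMap.congr_fun (HopfRep.Comod.coassoc (k := k) (A := A) (V := V)) v
  simp only [LinearMap.comp_apply, LinearEquiv.coe_coe] at hc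
  rw [hc]
  have e : ∀ z : V ⊗[k] A, Coalgebra.comul (R := k) (TensorProduct.lid k A (θ.rTensor A z)) =
      TensorProduct.lid k (A ⊗[k] A) (θ.rTensor (A ⊗[k] A) ((Coalgebra.comul (R := k)).lTensor V z)) := by
    intro z
    induction z using TensorProduct.induction_on with
    | zero => simp
    | tmul a b => simp
    | add p q hp hq => simp only [map_add, hp, hq]
  rw [devCoord, e, dev, map_sub]
  simp [Algebra.TensorProduct.one_def]

/-- The stabiliser of a vector is a closed subgroup. -/
theorem stab_isHopfIdeal (v : V) : (stab (k := k) (A := A) v).IsHopfIdeal k := by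
  set T := stab (k := k) (A := A) v
  let π := Ideal.Quotient.mkₐ k T
  have hfix : LinearMap.lTensor V π.toLinearMap (HopfRep.Comod.coact (k := k) (A := A) v) = v ⊗ₜ[k] (1 : A ⧸ T) :=
    (stab_le_iff T v).mp le_rfl
  have hcounit : T ≤ RingHom.ker (Bialgebra.counitAlgHom k A) := by
    refine Ideal.span_le.mpr ?_
    rintro _ ⟨θ, rfl⟩
    rw [SetLike.mem_coe, RingHom.mem_ker, Bialgebra.counitAlgHom_apply]
    have e : ∀ z : V ⊗[k] A, Coalgebra.counit (R := k) (TensorProduct.lid k A (θ.rTensor A z)) =
        θ (slice (Coalgebra.counit (R := k)) z) := by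
      intro z
      induction z using TensorProduct.induction_on with
      | zero => simp
      | tmul a b => simp [mul_comm]
      | add p q hp hq => simp only [map_add, hp, hq]
    rw [devCoord, e, dev, map_sub, slice_tmul, Bialgebra.counit_one, one_smul, ← actF_apply, actF_counit, sub_self,
      map_zero]
  -- comultiplication
  have hcomul : T ≤ RingHom.ker ((Algebra.TensorProduct.map π π).comp (Bialgebra.comulAlgHom k A)) := by
    refine Ideal.span_le.mpr ?_
    rintro _ ⟨θ, rfl⟩
    rw [SetLike.mem_coe, RingHom.mem_ker, AlgHom.comp_apply, Bialgebra.comulAlgHom_apply, comul_devCoord]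
    set f := LinearMap.lTensor V π.toLinearMap ∘ₗ HopfRep.Comod.coact (k := k) (A := A)
    have e1 : ∀ z : V ⊗[k] (A ⊗[k] A), Algebra.TensorProduct.map π π (TensorProduct.lid k _ (θ.rTensor _ z)) =
        TensorProduct.lid k _ (θ.rTensor _ ((TensorProduct.map π.toLinearMap π.toLinearMap).lTensor V z)) := by
      intro z
      induction z using TensorProduct.induction_on with
      | zero => simp
      | tmul a b => simp [map_smul]; rfl
      | add p q hp hq => simp only [map_add, hp, hq]
    have e2 : ∀ z : V ⊗[k] A, (TensorProduct.map π.toLinearMap π.toLinearMap).lTensor V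
        (TensorProduct.assoc k V A A ((HopfRep.Comod.coact (k := k) (A := A)).rTensor A z)) =
        TensorProduct.assoc k V (A ⧸ T) (A ⧸ T) (f.rTensor (A ⧸ T) (π.toLinearMap.lTensor V z)) := by
      intro z
      induction z using TensorProduct.induction_on with
      | zero => simp
      | add p q hp hq => simp only [map_add, hp, hq]
      | tmul a b =>
        simp only [LinearMap.rTensor_tmul, LinearMap.lTensor_tmul, f, LinearMap.comp_apply]
        generalize HopfRep.Comod.coact (k := k) (A := A) a = z
        induction z using TensorProduct.induction_on with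
        | zero => simp
        | tmul a b => simp
        | add p q hp hq => simp only [map_add, TensorProduct.add_tmul, hp, hq]
    rw [e1, map_sub, e2, hfix, LinearMap.rTensor_tmul, show f v = v ⊗ₜ[k] (1 : A ⧸ T) from hfix]
    simp
  -- antipode
  have hanti : T ≤ T.comap (HopfAlgebra.antipodeAlgHom k A) := by
    refine Ideal.span_le.mpr ?_
    rintro _ ⟨θ, rfl⟩
    rw [SetLike.mem_coe, Ideal.mem_comap, ← Ideal.Quotient.eq_zero_iff_mem, ← Ideal.Quotient.mkₐ_eq_mk k]
    show π (HopfAlgebra.antipode k (devCoord (A := A) v θ)) = 0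
    set t := devCoord (A := A) v θ
    have ht : Coalgebra.counit (R := k) t = 0 := hcounit (Ideal.subset_span ⟨θ, rfl⟩)
    have hz : π (LinearMap.mul' k A ((HopfAlgebra.antipode k).rTensor A (Coalgebra.comul (R := k) t))) = 0 := by
      rw [HopfAlgebra.mul_antipode_rTensor_comul_apply, ht, map_zero, map_zero]
    have e1 : ∀ z : A ⊗[k] A, π (LinearMap.mul' k A ((HopfAlgebra.antipode k).rTensor A z)) =
        LinearMap.mul' k (A ⧸ T) ((π.toLinearMap ∘ₗ HopfAlgebra.antipode k).rTensor (A ⧸ T)
          (π.toLinearMap.lTensor A z)) := by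
      intro z
      induction z using TensorProduct.induction_on with
      | zero => simp
      | tmul a b => simp
      | add p q hp hq => simp only [map_add, hp, hq]
    have e2 : π.toLinearMap.lTensor A (Coalgebra.comul (R := k) t) = t ⊗ₜ[k] (1 : A ⧸ T) := by
      rw [comul_devCoord]
      have e3 : ∀ z : V ⊗[k] (A ⊗[k] A), π.toLinearMap.lTensor A (TensorProduct.lid k _ (θ.rTensor _ z)) =
          TensorProduct.lid k _ (θ.rTensor _ ((π.toLinearMap.lTensor A).lTensor V z)) := by
        intro z
        induction z using TensorProduct.induction_on with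
        | zero => simp
        | tmul a b => simp
        | add p q hp hq => simp only [map_add, hp, hq]
      have e4 : ∀ z : V ⊗[k] A, (π.toLinearMap.lTensor A).lTensor V
          (TensorProduct.assoc k V A A ((HopfRep.Comod.coact (k := k) (A := A)).rTensor A z)) =
          TensorProduct.assoc k V A (A ⧸ T) ((HopfRep.Comod.coact (k := k) (A := A)).rTensor (A ⧸ T)
            (π.toLinearMap.lTensor V z)) := by
        intro z
        induction z using TensorProduct.induction_on with
        | zero => simp
        | add p q hp hq => simp only [map_add, hp, hq]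
        | tmul a b =>
          simp only [LinearMap.rTensor_tmul, LinearMap.lTensor_tmul]
          generalize HopfRep.Comod.coact (k := k) (A := A) a = z
          induction z using TensorProduct.induction_on with
          | zero => simp
          | tmul a b => simp
          | add p q hp hq => simp only [map_add, TensorProduct.add_tmul, hp, hq]
      rw [e3, map_sub, e4, hfix, LinearMap.rTensor_tmul]
      have e5 : ∀ z : V ⊗[k] A, TensorProduct.lid k _ (θ.rTensor _ (TensorProduct.assoc k V A (A ⧸ T) (z ⊗ₜ[k] (1 : A ⧸ T)))) =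
          TensorProduct.lid k A (θ.rTensor A z) ⊗ₜ[k] (1 : A ⧸ T) := by
        intro z
        induction z using TensorProduct.induction_on with
        | zero => simp
        | tmul a b => simp [TensorProduct.smul_tmul']
        | add p q hp hq => simp only [map_add, TensorProduct.add_tmul, hp, hq]
      rw [map_sub, map_sub, e5, show t = devCoord (A := A) v θ from rfl, devCoord, dev, map_sub, map_sub,
        TensorProduct.sub_tmul]
      simp [TensorProduct.smul_tmul']
    rw [e1, e2] at hz
    simpa using hz
  refine { toIsCoideal := ⟨fun a ha => hcounit ha, fun a ha => ?_⟩, antipode_mem := fun a ha => hanti ha }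
  let e : (A ⧸ T) ≃ₗ[k] (A ⧸ T.restrictScalars k) := (Submodule.Quotient.restrictScalarsEquiv k T).symm
  have he : (T.restrictScalars k).mkQ = e.toLinearMap ∘ₗ π.toLinearMap := LinearMap.ext fun b => rfl
  rw [he, TensorProduct.map_comp, LinearMap.comp_apply]
  have h2 : TensorProduct.map π.toLinearMap π.toLinearMap (Coalgebra.comul (R := k) a) = 0 := hcomul ha
  rw [h2, map_zero]

theorem fixed_mono {I J : Ideal A} (hIJ : I ≤ J) {v : V}
    (h : LinearMap.lTensor V (Ideal.Quotient.mkₐ k I).toLinearMap (HopfRep.Comod.coact (k := k) (A := A) v) =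
      v ⊗ₜ[k] (1 : A ⧸ I)) :
    LinearMap.lTensor V (Ideal.Quotient.mkₐ k J).toLinearMap (HopfRep.Comod.coact (k := k) (A := A) v) =
      v ⊗ₜ[k] (1 : A ⧸ J) :=
  (stab_le_iff J v).mp (((stab_le_iff I v).mpr h).trans hIJ)

/-- A vector fixed by every subgroup with the property `P` is fixed by the subgroup they generate. -/
theorem fixed_of_forall (P : Ideal A → Prop) {v : V}
    (h : ∀ I : Ideal A, P I →
      LinearMap.lTensor V (Ideal.Quotient.mkₐ k I).toLinearMap (HopfRep.Comod.coact (k := k) (A := A) v) =
        v ⊗ₜ[k] (1 : A ⧸ I)) :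
    let G := sSup {J : Ideal A | J.IsHopfIdeal k ∧ ∀ I : Ideal A, P I → J ≤ I}
    LinearMap.lTensor V (Ideal.Quotient.mkₐ k G).toLinearMap (HopfRep.Comod.coact (k := k) (A := A) v) =
      v ⊗ₜ[k] (1 : A ⧸ G) :=
  (stab_le_iff _ v).mp (le_sSup ⟨stab_isHopfIdeal v, fun I hI => (stab_le_iff I v).mpr (h I hI)⟩)

theorem mem_fixedPts_of_fixed_bot {v : V}
    (h : LinearMap.lTensor V (Ideal.Quotient.mkₐ k (⊥ : Ideal A)).toLinearMap (HopfRep.Comod.coact (k := k) (A := A) v) =
      v ⊗ₜ[k] (1 : A ⧸ (⊥ : Ideal A))) : v ∈ HopfRep.fixedPts k A V := by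
  have hinj : Function.Injective (Ideal.Quotient.mkₐ k (⊥ : Ideal A)).toLinearMap := fun a b hab =>
    sub_eq_zero.mp (Ideal.mem_bot.mp ((Ideal.Quotient.eq).mp hab))
  refine Module.Flat.lTensor_preserves_injective_linearMap (M := V) _ hinj ?_
  rw [h]
  simp

end Groth.Agent.PsReflLib
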