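import Groth.Agent.PsReflLib.HopfGen
import Mathlib.RingTheory.Filtration

/-!
# Local behaviour of a pseudo-reflection at a fixed point
-/

universe u

open TensorProduct

namespace Groth.Agent.PsReflLib

open Groth.Agent.ComodLib

variable {k : Type u} [Field k] {B : Type u} [CommRing B] [HopfAlgebra k B]
variable {R : Type u} [CommRing R] [Algebra k R] [HopfRep.Comod k B R] [GLin.IsCoactAlg k B R]

theorem apply_actF_of_fixedPt {x : R →ₐ[k] k} (hx : GLin.IsFixedPt k B x) (φ : B →ₗ[k] k) (f : R) :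
    x (actF φ f) = φ 1 * x f := by
  have h : GLin.orbitHom k B x f = algebraMap k B (x f) := AlgHom.congr_fun hx f
  have e : ∀ z : R ⊗[k] B, x (slice φ z) = φ (Algebra.TensorProduct.lid k B (Algebra.TensorProduct.map x (AlgHom.id k B) z)) := by
    intro z
    induction z using TensorProduct.induction_on with
    | zero => simp
    | tmul a b => simp [mul_comm]
    | add p q hp hq => simp only [map_add, hp, hq]
  have h' : Algebra.TensorProduct.lid k B (Algebra.TensorProduct.map x (AlgHom.id k B)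
      (HopfRep.Comod.coact (k := k) (A := B) f)) = algebraMap k B (x f) := h
  rw [actF_apply, e, h', Algebra.algebraMap_eq_smul_one, map_smul, smul_eq_mul, mul_comm]

theorem isSubcomod_ker_of_fixedPt {x : R →ₐ[k] k} (hx : GLin.IsFixedPt k B x) :
    HopfRep.IsSubcomod (k := k) (A := B) ((RingHom.ker x).restrictScalars k) :=
  isSubcomod_iff_actF.mpr fun φ u hu => by
    rw [Submodule.restrictScalars_mem, RingHom.mem_ker] at hu ⊢
    rw [apply_actF_of_fixedPt hx, hu, mul_zero]

theorem isSubcomod_ker_pow {x : R →ₐ[k] k} (hx : GLin.IsFixedPt k B x) (n : ℕ) :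
    HopfRep.IsSubcomod (k := k) (A := B) ((RingHom.ker x ^ n).restrictScalars k) := by
  induction n with
  | zero => rw [pow_zero, Ideal.one_eq_top, Submodule.restrictScalars_top]; exact isSubcomod_top
  | succ n ih => rw [pow_succ, Submodule.restrictScalars_mul]; exact isSubcomod_mul ih (isSubcomod_ker_of_fixedPt hx)

theorem sub_algebraMap_mem_ker (x : R →ₐ[k] k) (f : R) : f - algebraMap k R (x f) ∈ RingHom.ker x := by
  rw [RingHom.mem_ker, map_sub, AlgHom.commutes, Algebra.algebraMap_self_apply, sub_self]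

/-- The fixed subgroup of a hyperplane in the cotangent space moves every function along a single parameter. -/
theorem exists_param_of_hyperplane (hB : HopfRep.IsLinearlyReductive k B) {x : R →ₐ[k] k}
    (hx : GLin.IsFixedPt k B x)
    (hcod : Module.finrank k ↥((((RingHom.ker x).restrictScalars k) ⊓ HopfRep.fixedPts k B R).map
        (Ideal.Quotient.mkₐ k (RingHom.ker x ^ 2)).toLinearMap) + 1 = Module.finrank k ↥(GLin.cotSpace k R x)) :
    ∃ l : R, l ∈ RingHom.ker x ∧ l ∉ RingHom.ker x ^ 2 ∧ ∀ (φ : B →ₗ[k] k) (N : ℕ) (f : R),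
      actF φ f - φ 1 • f ∈ Ideal.span {l} ⊔ RingHom.ker x ^ N := by
  set m := RingHom.ker x
  let q := (Ideal.Quotient.mkₐ k (m ^ 2)).toLinearMap
  let F : Submodule k R := m.restrictScalars k ⊓ HopfRep.fixedPts k B R
  let U : Submodule k R := F ⊔ (m ^ 2).restrictScalars k
  have hm2 : (m ^ 2).restrictScalars k ≤ m.restrictScalars k := Ideal.pow_le_self two_ne_zero
  have hUm : U ≤ m.restrictScalars k := sup_le inf_le_left hm2
  have hqker : ∀ y : R, q y = 0 ↔ y ∈ m ^ 2 := fun y => Ideal.Quotient.eq_zero_iff_mem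
  have hqU : U.map q = F.map q := by
    refine le_antisymm ?_ (Submodule.map_mono le_sup_left)
    rw [Submodule.map_sup]
    refine sup_le le_rfl ?_
    rintro _ ⟨y, hy, rfl⟩
    rw [(hqker y).mpr hy]
    exact Submodule.zero_mem _
  have hU : HopfRep.IsSubcomod (k := k) (A := B) U :=
    isSubcomod_sup (isSubcomod_inf (isSubcomod_ker_of_fixedPt hx) isSubcomod_fixedPts) (isSubcomod_ker_pow hx 2)
  obtain ⟨C, hC, hUC⟩ := isSemisimpleComod_of_isLinearlyReductive hB (V := R) U hU
  let L : Submodule k R := C ⊓ m.restrictScalars k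
  have hL : HopfRep.IsSubcomod (k := k) (A := B) L := isSubcomod_inf hC (isSubcomod_ker_of_fixedPt hx)
  have hmL : m.restrictScalars k = U ⊔ L := by
    rw [show U ⊔ L = (U ⊔ C) ⊓ m.restrictScalars k from (sup_inf_assoc_of_le C hUm).symm, hUC.codisjoint.eq_top, top_inf_eq]
  have hne : ∃ l ∈ L, l ∉ U := by
    by_contra hcon
    push Not at hcon
    have h1 : m.restrictScalars k ≤ U := hmL.le.trans (sup_le le_rfl hcon)
    have h2 : GLin.cotSpace k R x = F.map q := by
      refine le_antisymm ((Submodule.map_mono h1).trans hqU.le) (Submodule.map_mono inf_le_left)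
    rw [h2] at hcod
    exact absurd hcod (Nat.succ_ne_self _)
  obtain ⟨l, hlL, hlU⟩ := hne
  have hlm : l ∈ m := hlL.2
  have hl2 : l ∉ m ^ 2 := fun h => hlU (le_sup_right (a := F) h)
  have hLle : L ≤ k ∙ l := by
    intro y hy
    have hfin : FiniteDimensional k ↥(GLin.cotSpace k R x) := FiniteDimensional.of_finrank_pos (by omega)
    have hsub : F.map q ⊔ k ∙ q l ≤ GLin.cotSpace k R x := by
      refine sup_le (Submodule.map_mono inf_le_left) ?_
      rw [Submodule.span_singleton_le_iff_mem]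
      exact Submodule.mem_map_of_mem (f := q) (p := m.restrictScalars k) hlm
    haveI := Submodule.finiteDimensional_of_le hsub
    have hlt : F.map q < F.map q ⊔ k ∙ q l := by
      refine lt_of_le_of_ne le_sup_left fun h => hlU ?_
      have : q l ∈ F.map q := h ▸ Submodule.mem_sup_right (Submodule.mem_span_singleton_self _)
      obtain ⟨f, hf, hfl⟩ := this
      rw [show l = f + (l - f) by abel]
      exact Submodule.add_mem_sup hf ((hqker _).mp (by rw [map_sub, hfl, sub_self]))
    have heq : F.map q ⊔ k ∙ q l = GLin.cotSpace k R x := by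
      refine Submodule.eq_of_le_of_finrank_le hsub ?_
      have h3 := Submodule.finrank_lt_finrank_of_lt hlt
      have hcod' : Module.finrank k ↥(F.map q) + 1 = Module.finrank k ↥(GLin.cotSpace k R x) := hcod
      rw [← hcod']
      exact h3
    have hy' : q y ∈ F.map q ⊔ k ∙ q l := heq ▸ Submodule.mem_map_of_mem (f := q) (p := m.restrictScalars k) hy.2
    obtain ⟨_, ⟨f, hf, rfl⟩, _, hz, hsum⟩ := Submodule.mem_sup.mp hy'
    obtain ⟨c, rfl⟩ := Submodule.mem_span_singleton.mp hz
    have h4 : y - c • l ∈ U := by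
      rw [show y - c • l = f + (y - c • l - f) by abel]
      refine Submodule.add_mem_sup hf ((hqker _).mp ?_)
      rw [map_sub, map_sub, map_smul, ← hsum]
      abel
    have h5 : y - c • l ∈ C := C.sub_mem hy.1 (C.smul_mem _ hlL.1)
    exact Submodule.mem_span_singleton.mpr
      ⟨c, (sub_eq_zero.mp (Submodule.disjoint_def.mp hUC.disjoint _ h4 h5)).symm⟩
  refine ⟨l, hlm, hl2, fun φ N f => ?_⟩
  let P : Ideal R := Ideal.span {l} ⊔ m ^ N
  let πP := Ideal.Quotient.mkₐ k P
  let E : Subalgebra k R := AlgHom.equalizer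
    ((Algebra.TensorProduct.map πP (AlgHom.id k B)).comp (GLin.coactAlgHom k B R))
    ((Algebra.TensorProduct.includeLeft : (R ⧸ P) →ₐ[k] (R ⧸ P) ⊗[k] B).comp πP)
  have eslice : ∀ (ψ : B →ₗ[k] k) (z : R ⊗[k] B),
      slice ψ (Algebra.TensorProduct.map πP (AlgHom.id k B) z) = πP (slice ψ z) := by
    intro ψ z
    induction z using TensorProduct.induction_on with
    | zero => simp
    | tmul a b => simp
    | add p q hp hq => simp only [map_add, hp, hq]
  have hiff : ∀ g : R, g ∈ E ↔ ∀ ψ : B →ₗ[k] k, actF ψ g - ψ 1 • g ∈ P := by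
    intro g
    have e1 : g ∈ E ↔ Algebra.TensorProduct.map πP (AlgHom.id k B) (HopfRep.Comod.coact (k := k) (A := B) g) =
        πP g ⊗ₜ[k] (1 : B) := Iff.rfl
    have e2 : ∀ ψ : B →ₗ[k] k, (actF ψ g - ψ 1 • g ∈ P ↔ slice ψ (Algebra.TensorProduct.map πP (AlgHom.id k B)
        (HopfRep.Comod.coact (k := k) (A := B) g)) = slice ψ (πP g ⊗ₜ[k] (1 : B))) := fun ψ => by
      rw [eslice, slice_tmul, ← actF_apply, ← map_smul, ← sub_eq_zero (a := πP (actF ψ g)), ← map_sub]
      exact Ideal.Quotient.eq_zero_iff_mem.symm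
    rw [e1]
    exact ⟨fun h ψ => (e2 ψ).mpr (by rw [h]), fun h => ext_of_forall_slice_eq fun ψ => (e2 ψ).mp (h ψ)⟩
  let G : Submodule k R := F ⊔ k ∙ l
  have hGE : G ≤ Subalgebra.toSubmodule E := by
    refine sup_le (fun g hg => (hiff g).mpr fun ψ => ?_) ((Submodule.span_singleton_le_iff_mem _ _).mpr ((hiff l).mpr fun ψ => ?_))
    · rw [(fixedPts_actF g).mp hg.2 ψ, sub_self]
      exact P.zero_mem
    · obtain ⟨c, hc⟩ := Submodule.mem_span_singleton.mp (hLle (subcomod_actF_mem hL ψ hlL))
      rw [← hc, ← sub_smul, Algebra.smul_def]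
      exact Ideal.mul_mem_left _ _ (Submodule.mem_sup_left (Ideal.mem_span_singleton_self l))
  have hNE : (m ^ N).restrictScalars k ≤ Subalgebra.toSubmodule E := fun g hg => (hiff g).mpr fun ψ =>
    Submodule.mem_sup_right (Submodule.sub_mem _ (subcomod_actF_mem (isSubcomod_ker_pow hx N) ψ hg)
      (Submodule.smul_of_tower_mem _ (ψ 1) hg))
  have hG1 : m.restrictScalars k ≤ G ⊔ (m ^ 2).restrictScalars k := by
    rw [hmL]
    exact sup_le (sup_le (le_sup_of_le_left le_sup_left) le_sup_right)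
      (le_sup_of_le_left (le_sup_of_le_right hLle))
  have hGm : G ≤ m.restrictScalars k :=
    sup_le inf_le_left ((Submodule.span_singleton_le_iff_mem _ _).mpr hlm)
  have hfilt : ∀ j : ℕ, ∀ g ∈ m ^ (j + 1), g ∈ Subalgebra.toSubmodule E ⊔ (m ^ (j + 2)).restrictScalars k := by
    intro j
    induction j with
    | zero =>
      intro g hg
      rw [zero_add, pow_one] at hg
      exact sup_le_sup_right hGE _ (hG1 hg)
    | succ j ih =>
      intro g hg
      rw [pow_succ] at hg
      induction hg using Submodule.mul_induction_on' with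
      | add a _ b _ ha hb => exact Submodule.add_mem _ ha hb
      | mem_mul_mem a ha b hb =>
        obtain ⟨a₁, ha₁, a₂, ha₂, rfl⟩ := Submodule.mem_sup.mp (ih a ha)
        obtain ⟨b₁, hb₁, b₂, hb₂, rfl⟩ := Submodule.mem_sup.mp (hG1 hb)
        have ha₁m : a₁ ∈ m ^ (j + 1) := by
          have h := (m ^ (j + 1)).sub_mem ha (Ideal.pow_le_pow_right (by omega : j + 1 ≤ j + 2) ha₂)
          rwa [add_sub_cancel_right] at h
        rw [add_mul, mul_add, add_assoc (a₁ * b₁)]
        refine Submodule.add_mem_sup (E.mul_mem ha₁ (hGE hb₁)) ?_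
        refine Submodule.add_mem _ ?_ ?_
        · show a₁ * b₂ ∈ m ^ (j + 1 + 2)
          rw [pow_add]
          exact Ideal.mul_mem_mul ha₁m hb₂
        · show a₂ * (b₁ + b₂) ∈ m ^ (j + 1 + 2)
          rw [show j + 1 + 2 = (j + 2) + 1 by omega, pow_succ]
          exact Ideal.mul_mem_mul ha₂ hb
  have hall : ∀ d j : ℕ, N ≤ j + 1 + d → ∀ g ∈ m ^ (j + 1), g ∈ Subalgebra.toSubmodule E := by
    intro d
    induction d with
    | zero => intro j hj g hg; exact hNE (Ideal.pow_le_pow_right (by omega) hg)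
    | succ d ih =>
      intro j hj g hg
      obtain ⟨a, ha, b, hb, rfl⟩ := Submodule.mem_sup.mp (hfilt j g hg)
      exact Submodule.add_mem _ ha (ih (j + 1) (by omega) b hb)
  refine (hiff f).mp ?_ φ
  rw [← sub_add_cancel f (algebraMap k R (x f))]
  exact E.add_mem (hall N 0 (by omega) _ (by rw [zero_add, pow_one]; exact sub_algebraMap_mem_ker x f)) (E.algebraMap_mem _)

/-- The Krull intersection theorem, in the form needed. -/
theorem exists_notMem_mul_mem [IsNoetherianRing R] (x : R →ₐ[k] k) (K : Ideal R) {y : R}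
    (h : ∀ N : ℕ, y ∈ K ⊔ RingHom.ker x ^ N) : ∃ t : R, x t ≠ 0 ∧ t * y ∈ K := by
  obtain ⟨⟨r, hr⟩, hry⟩ := (Ideal.mem_iInf_smul_pow_eq_bot_iff (RingHom.ker x) (Ideal.Quotient.mk K y)).mp (by
    refine Submodule.mem_iInf _ |>.mpr fun N => ?_
    obtain ⟨a, ha, b, hb, hab⟩ := Submodule.mem_sup.mp (h N)
    rw [← hab, map_add, Ideal.Quotient.eq_zero_iff_mem.mpr ha, zero_add,
      show Ideal.Quotient.mk K b = b • (1 : R ⧸ K) by rw [Algebra.smul_def, mul_one]; rfl]
    exact Submodule.smul_mem_smul hb Submodule.mem_top)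
  refine ⟨1 - r, ?_, ?_⟩
  · rw [map_sub, map_one, RingHom.mem_ker.mp hr, sub_zero]; exact one_ne_zero
  · rw [sub_mul, one_mul, ← Ideal.Quotient.eq_zero_iff_mem, map_sub, map_mul, sub_eq_zero]
    conv_lhs => rw [← hry]
    rfl

end Groth.Agent.PsReflLib
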