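import Groth.Agent.PsReflLib.Hyperplane
import Groth.Agent.FinQuotLib.Orbit

/-!
# The key lemma of the theorem of Chevalley, Shephard and Todd

A relation with invariant coefficients, one of which is not in the ideal generated by the others, has the corresponding
entry in the ideal generated by the invariants vanishing at the fixed point.
-/

universe u

open TensorProduct

namespace Groth.Agent.PsReflLib

open Groth.Agent.ComodLib

variable {k : Type u} [Field k] {A : Type u} [CommRing A] [HopfAlgebra k A]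
variable {R : Type u} [CommRing R] [Algebra k R] [HopfRep.Comod k A R] [GLin.IsCoactAlg k A R]

theorem actF_mul_invariant (φ : A →ₗ[k] k) (y : R) {g : R} (hg : g ∈ GLin.invariants k A R) :
    actF φ (y * g) = actF φ y * g := by
  rw [actF_apply, actF_apply, GLin.IsCoactAlg.coact_mul,
    show HopfRep.Comod.coact (k := k) (A := A) g = g ⊗ₜ[k] (1 : A) from hg]
  induction HopfRep.Comod.coact (k := k) (A := A) y using TensorProduct.induction_on with
  | zero => simp
  | tmul a b => simp
  | add p q hp hq => simp only [add_mul, map_add, hp, hq]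

variable (A) in
/-- The ideal generated by the invariants vanishing at a rational point. -/
def invIdeal (x : R →ₐ[k] k) : Ideal R :=
  Ideal.span {y : R | y ∈ GLin.invariants k A R ∧ x y = 0}

theorem invIdeal_le_ker (x : R →ₐ[k] k) : invIdeal A x ≤ RingHom.ker x :=
  Ideal.span_le.mpr fun _ hy => hy.2

theorem sub_algebraMap_mem_invIdeal (x : R →ₐ[k] k) {s : R} (hs : s ∈ GLin.invariants k A R) :
    s - algebraMap k R (x s) ∈ invIdeal A x :=
  Ideal.subset_span ⟨sub_mem hs (Subalgebra.algebraMap_mem _ _), sub_algebraMap_mem_ker x s⟩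

theorem mem_of_invariant_mul_mem {x : R →ₐ[k] k} {Q : Ideal R} (hQ : invIdeal A x ≤ Q) {s y : R}
    (hs : s ∈ GLin.invariants k A R) (hs0 : x s ≠ 0) (h : s * y ∈ Q) : y ∈ Q := by
  have h1 : algebraMap k R (x s) * y ∈ Q := by
    have := Q.sub_mem h (Q.mul_mem_right y (hQ (sub_algebraMap_mem_invIdeal x hs)))
    rwa [sub_mul, sub_sub_cancel] at this
  have h2 := Q.mul_mem_left (algebraMap k R (x s)⁻¹) h1
  rwa [← mul_assoc, ← map_mul, inv_mul_cancel₀ hs0, map_one, one_mul] at h2

theorem isSubcomod_invIdeal (x : R →ₐ[k] k) :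
    HopfRep.IsSubcomod (k := k) (A := A) ((invIdeal A x).restrictScalars k) := by
  refine isSubcomod_iff_actF.mpr fun φ y hy => ?_
  suffices h : ∀ r : R, actF φ (r * y) ∈ invIdeal A x by simpa using h 1
  rw [Submodule.restrictScalars_mem] at hy
  induction hy using Submodule.span_induction with
  | mem g hg => intro r; rw [actF_mul_invariant φ r hg.1]; exact Ideal.mul_mem_left _ _ (Ideal.subset_span hg)
  | zero => intro r; simp
  | add a b _ _ ha hb => intro r; rw [mul_add, map_add]; exact Ideal.add_mem _ (ha r) (hb r)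
  | smul c a _ ha => intro r; rw [smul_eq_mul, ← mul_assoc]; exact ha _

/-- Every function not vanishing at a fixed point divides an invariant not vanishing there. -/
theorem exists_invariant_multiple [Module.Finite k A] {x : R →ₐ[k] k} (hx : GLin.IsFixedPt k A x) {t : R}
    (ht : x t ≠ 0) : ∃ s ∈ GLin.invariants k A R, x s ≠ 0 ∧ t ∣ s := by
  set P := FinQuotLib.cp k (GLin.coactAlgHom k A R t)
  refine ⟨P.coeff 0, FinQuotLib.coeff_cp_coact_mem t 0, fun h0 => ?_, ?_⟩
  · have h1 : FinQuotLib.cp k (Algebra.TensorProduct.map x (AlgHom.id k A) (GLin.coactAlgHom k A R t)) =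
        P.map x.toRingHom := FinQuotLib.cp_map x _
    have h2 : Algebra.TensorProduct.map x (AlgHom.id k A) (GLin.coactAlgHom k A R t) = x t ⊗ₜ[k] (1 : A) := by
      apply (Algebra.TensorProduct.lid k A).injective
      have h := AlgHom.congr_fun hx t
      show GLin.orbitHom k A x t = _
      rw [h]
      simp [Algebra.ofId_apply, Algebra.algebraMap_eq_smul_one]
    have hu : IsUnit (x t ⊗ₜ[k] (1 : A)) := by
      have : IsUnit (algebraMap k (k ⊗[k] A) (x t)) := (Ne.isUnit ht).map _
      exact this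
    have hdet : LinearMap.det (Algebra.lmul k (k ⊗[k] A) (x t ⊗ₜ[k] (1 : A))) = 0 := by
      rw [LinearMap.det_eq_sign_charpoly_coeff]
      refine mul_eq_zero_of_right _ ?_
      show (FinQuotLib.cp k (x t ⊗ₜ[k] (1 : A))).coeff 0 = 0
      rw [← h2, h1, Polynomial.coeff_map]
      exact h0
    exact ((hu.map (Algebra.lmul k (k ⊗[k] A))).map (LinearMap.det : Module.End k (k ⊗[k] A) →* k)).ne_zero hdet
  · have h1 := FinQuotLib.eval_cp_coact (k := k) (H := A) t
    rw [show FinQuotLib.cp k (GLin.coactAlgHom k A R t) = P from rfl, ← Polynomial.divX_mul_X_add P, Polynomial.eval_add, Polynomial.eval_mul, Polynomial.eval_X,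
      Polynomial.eval_C] at h1
    exact ⟨-(Polynomial.eval t P.divX), by rw [eq_neg_of_add_eq_zero_right h1]; ring⟩

/-- Near a fixed point a pseudo-reflection moves every function along a single parameter. -/
theorem exists_param_of_isPseudoReflAt [Module.Finite k A] [IsNoetherianRing R]
    (hsub : ∀ (I : Ideal A) [I.IsHopfIdeal k], HopfRep.IsLinearlyReductive k (A ⧸ I))
    {x : R →ₐ[k] k} (hx : GLin.IsFixedPt k A x) {I : Ideal A} (hI : GLin.IsPseudoReflAt k A R x I) :
    ∃ l : R, l ∈ RingHom.ker x ∧ l ∉ RingHom.ker x ^ 2 ∧ ∀ (φ : (A ⧸ I) →ₗ[k] k) (f : R),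
      ∃ s ∈ GLin.invariants k A R, x s ≠ 0 ∧
        l ∣ s * (actF (φ ∘ₗ (Ideal.Quotient.mkₐ k I).toLinearMap) f - φ 1 • f) := by
  obtain ⟨hH, hrank⟩ := hI
  haveI := hH
  let cA : HopfRep.Comod k A R := inferInstance
  let i : A →ₗc[k] A ⧸ I := (Bialgebra.Quotient.mkBialgHom (R := k) I).toCoalgHom
  have hi : (i : A →ₗ[k] A ⧸ I) = (Ideal.Quotient.mkₐ k I).toLinearMap := rfl
  letI cB : HopfRep.Comod k (A ⧸ I) R := pushComod i cA
  have hact : ∀ (φ : (A ⧸ I) →ₗ[k] k) (f : R),
      actF φ f = actF (φ ∘ₗ (Ideal.Quotient.mkₐ k I).toLinearMap) f :=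
    fun φ f => actF_comp_of_push i rfl φ f
  haveI : GLin.IsCoactAlg k (A ⧸ I) R := by
    have e : ∀ f : R, HopfRep.Comod.coact (k := k) (A := A ⧸ I) f =
        Algebra.TensorProduct.map (AlgHom.id k R) (Ideal.Quotient.mkₐ k I) (GLin.coactAlgHom k A R f) := fun f => by
      rw [GLin.coactAlgHom_apply]
      show LinearMap.lTensor R _ (HopfRep.Comod.coact (k := k) (A := A) f) = _
      rw [hi]
      induction HopfRep.Comod.coact (k := k) (A := A) f using TensorProduct.induction_on with
      | zero => simp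
      | tmul a b => simp
      | add p q hp hq => simp only [map_add, hp, hq]
    exact ⟨by rw [e, map_one, map_one], fun f g => by rw [e, e, e, map_mul, map_mul]⟩
  have hxB : GLin.IsFixedPt k (A ⧸ I) x := by
    refine AlgHom.ext fun f => ?_
    have h := congrArg (Ideal.Quotient.mkₐ k I) (AlgHom.congr_fun hx f)
    rw [AlgHom.comp_apply, Algebra.ofId_apply, AlgHom.commutes] at h
    rw [AlgHom.comp_apply, Algebra.ofId_apply, ← h]
    show Algebra.TensorProduct.lid k (A ⧸ I) (Algebra.TensorProduct.map x (AlgHom.id k (A ⧸ I))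
      (LinearMap.lTensor R (i : A →ₗ[k] A ⧸ I) (HopfRep.Comod.coact (k := k) (A := A) f))) =
      Ideal.Quotient.mkₐ k I (Algebra.TensorProduct.lid k A (Algebra.TensorProduct.map x (AlgHom.id k A)
        (HopfRep.Comod.coact (k := k) (A := A) f)))
    rw [hi]
    induction HopfRep.Comod.coact (k := k) (A := A) f using TensorProduct.induction_on with
    | zero => simp
    | tmul a b => simp
    | add p q hp hq => simp only [map_add, hp, hq]
  obtain ⟨β, hβ, hβ1⟩ := exists_integral_of_isLinearlyReductive (k := k) (A := A ⧸ I) (hsub I)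
  have hfix : ((RingHom.ker x).restrictScalars k ⊓ HopfRep.fixedPts k (A ⧸ I) R).map
      (Ideal.Quotient.mkₐ k (RingHom.ker x ^ 2)).toLinearMap = GLin.cotFixed k A R x I := by
    set q := (Ideal.Quotient.mkₐ k (RingHom.ker x ^ 2)).toLinearMap
    have emap : ∀ v : R, TensorProduct.map q (Ideal.Quotient.mkₐ k I).toLinearMap
        (HopfRep.Comod.coact (k := k) (A := A) v) = q.rTensor (A ⧸ I) (HopfRep.Comod.coact (k := k) (A := A ⧸ I) v) := by
      intro v
      show _ = q.rTensor (A ⧸ I) (LinearMap.lTensor R (i : A →ₗ[k] A ⧸ I) (HopfRep.Comod.coact (k := k) (A := A) v))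
      rw [hi, ← LinearMap.comp_apply (q.rTensor (A ⧸ I)), LinearMap.rTensor_comp_lTensor]
    refine le_antisymm ?_ ?_
    · rintro _ ⟨v, ⟨hvm, hv⟩, rfl⟩
      refine ⟨v, ⟨hvm, ?_⟩, rfl⟩
      show TensorProduct.map q (Ideal.Quotient.mkₐ k I).toLinearMap (HopfRep.Comod.coact (k := k) (A := A) v) =
        q v ⊗ₜ[k] (1 : A ⧸ I)
      rw [emap, show HopfRep.Comod.coact (k := k) (A := A ⧸ I) v = v ⊗ₜ[k] (1 : A ⧸ I) from hv, LinearMap.rTensor_tmul]
    · rintro _ ⟨v, ⟨hvm, hv⟩, rfl⟩
      replace hv : TensorProduct.map q (Ideal.Quotient.mkₐ k I).toLinearMap (HopfRep.Comod.coact (k := k) (A := A) v) =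
        q v ⊗ₜ[k] (1 : A ⧸ I) := hv
      rw [emap] at hv
      refine ⟨rey β v, ⟨rey_mem_of_isSubcomod (isSubcomod_ker_of_fixedPt hxB) hvm, rey_mem_fixedPts hβ v⟩, ?_⟩
      rw [rey, actF_apply, ← slice_rTensor, hv, slice_tmul]
      simp [hβ1, q]
  obtain ⟨l, hl, hl2, hloc⟩ := exists_param_of_hyperplane (hsub I) hxB (by rw [hfix]; exact hrank)
  refine ⟨l, hl, hl2, fun φ f => ?_⟩
  obtain ⟨t, ht0, ht⟩ := exists_notMem_mul_mem x (Ideal.span {l})
    (y := actF φ f - φ 1 • f) (fun N => hloc φ N f)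
  obtain ⟨s, hs, hs0, c, hc⟩ := exists_invariant_multiple hx ht0
  refine ⟨s, hs, hs0, ?_⟩
  rw [← hact, ← Ideal.mem_span_singleton, hc, mul_comm t c, mul_assoc]
  exact Ideal.mul_mem_left _ _ ht

variable (A) in
/-- An invariant is independent of the others at the point: no multiple of it by an invariant not vanishing there lies
in their span. -/
def IsIndep {n : ℕ} (x : R →ₐ[k] k) (f : Fin n → R) (i : Fin n) : Prop :=
  ∀ s ∈ GLin.invariants k A R, x s ≠ 0 → ∀ c : Fin n → R, (∀ j, c j ∈ GLin.invariants k A R) →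
    s * f i ≠ ∑ j ∈ Finset.univ.erase i, c j * f j

theorem mem_invIdeal_sup_pow [Module.Finite k A] [IsNoetherianRing R] (hG : HopfRep.IsLinearlyReductive k A)
    (hsub : ∀ (I : Ideal A) [I.IsHopfIdeal k], HopfRep.IsLinearlyReductive k (A ⧸ I))
    {x : R →ₐ[k] k} (hx : GLin.IsFixedPt k A x) (hgen : GLin.IsGenByPseudoReflAt k A R x)
    (hdom : ∀ a b : R, a ∉ RingHom.ker x ^ 2 → a * b = 0 → ∃ t, x t ≠ 0 ∧ t * b = 0) (N : ℕ) :
    ∀ {n : ℕ} (f h : Fin n → R), (∀ j, f j ∈ GLin.invariants k A R) → ∑ j, f j * h j = 0 →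
      ∀ i, IsIndep A x f i → h i ∈ invIdeal A x ⊔ RingHom.ker x ^ N := by
  classical
  induction N with
  | zero => intro n f h _ _ i _; rw [pow_zero, Ideal.one_eq_top, sup_top_eq]; exact Submodule.mem_top
  | succ N ih =>
    intro n f h hf hrel i hi
    obtain ⟨α, hα, h1⟩ := exists_integral_of_isLinearlyReductive (k := k) (A := A) hG
    set J' : Ideal R := invIdeal A x ⊔ RingHom.ker x ^ (N + 1)
    have hJJ : invIdeal A x ≤ J' := le_sup_left
    have hJ' : HopfRep.IsSubcomod (k := k) (A := A) (J'.restrictScalars k) := by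
      rw [Submodule.restrictScalars_sup]
      exact isSubcomod_sup (isSubcomod_invIdeal x) (isSubcomod_ker_pow hx _)
    -- the entry vanishes at the point
    have hrey : ∑ j, rey α (h j) * f j = 0 := by
      rw [← map_zero (rey α : R →ₗ[k] R), ← hrel, map_sum]
      exact Finset.sum_congr rfl fun j _ => by rw [mul_comm (f j), rey_mul_invariant _ (hf j)]
    have hhm : x (rey α (h i)) = 0 := by
      by_contra h0
      refine hi _ (rey_mem_fixedPts hα _) h0 (fun j => - rey α (h j)) (fun j => neg_mem (rey_mem_fixedPts hα _)) ?_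
      rw [← Finset.add_sum_erase _ _ (Finset.mem_univ i)] at hrel hrey
      rw [eq_neg_of_add_eq_zero_left hrey, ← Finset.sum_neg_distrib]
      exact Finset.sum_congr rfl fun j _ => by rw [neg_mul]
    -- the entry is fixed modulo `J'` by every pseudo-reflection
    have hD : ∀ I : Ideal A, GLin.IsPseudoReflAt k A R x I → ∀ φ : (A ⧸ I) →ₗ[k] k,
        actF (φ ∘ₗ (Ideal.Quotient.mkₐ k I).toLinearMap) (h i) - φ 1 • h i ∈ J' := by
      intro I hI φ
      obtain ⟨l, hl, hl2, hloc⟩ := exists_param_of_isPseudoReflAt hsub hx hI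
      set D : R →ₗ[k] R := actF (φ ∘ₗ (Ideal.Quotient.mkₐ k I).toLinearMap) - φ 1 • LinearMap.id with hDdef
      have hDap : ∀ y, D y = actF (φ ∘ₗ (Ideal.Quotient.mkₐ k I).toLinearMap) y - φ 1 • y := fun y => rfl
      have hDlin : ∀ y g, g ∈ GLin.invariants k A R → D (y * g) = D y * g := fun y g hg => by
        rw [hDap, hDap, actF_mul_invariant _ _ hg, sub_mul, smul_mul_assoc]
      have hsum : ∑ j, D (h j) * f j = 0 := by
        rw [← map_zero D, ← hrel, map_sum]
        exact Finset.sum_congr rfl fun j _ => by rw [mul_comm (f j), hDlin _ _ (hf j)]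
      choose s hs hs0 hdvd using fun j => hloc φ (h j)
      let σ := ∏ j, s j
      have hσ : σ ∈ GLin.invariants k A R := Subalgebra.prod_mem _ fun j _ => hs j
      have hσ0 : x σ ≠ 0 := by rw [map_prod]; exact Finset.prod_ne_zero_iff.mpr fun j _ => hs0 j
      have hu : ∀ j, l ∣ σ * D (h j) := fun j => by
        rw [show σ = s j * ∏ m ∈ Finset.univ.erase j, s m from (Finset.mul_prod_erase _ _ (Finset.mem_univ j)).symm,
          mul_comm (s j), mul_assoc]
        exact dvd_mul_of_dvd_right (hdvd j) _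
      choose u hu using hu
      have hlu : l * ∑ j, f j * u j = 0 := by
        rw [← mul_zero σ, ← hsum, Finset.mul_sum, Finset.mul_sum]
        exact Finset.sum_congr rfl fun j _ => by rw [← mul_assoc σ, hu j]; ring
      obtain ⟨t, ht0, ht⟩ := hdom _ _ hl2 hlu
      obtain ⟨τ, hτ, hτ0, c, hc⟩ := exists_invariant_multiple hx ht0
      have hrel' : ∑ j, f j * (τ * u j) = 0 := by
        rw [show ∑ j, f j * (τ * u j) = c * (t * ∑ j, f j * u j) by
          rw [hc, Finset.mul_sum, Finset.mul_sum]; exact Finset.sum_congr rfl fun j _ => by ring, ht, mul_zero]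
      have hui : u i ∈ invIdeal A x ⊔ RingHom.ker x ^ N :=
        mem_of_invariant_mul_mem le_sup_left hτ hτ0 (ih f _ hf hrel' i hi)
      refine mem_of_invariant_mul_mem hJJ hσ hσ0 ?_
      rw [← hDap, hu i]
      obtain ⟨a, ha, b, hb, hab⟩ := Submodule.mem_sup.mp hui
      rw [← hab, mul_add]
      refine Submodule.add_mem_sup (Ideal.mul_mem_left _ _ ha) ?_
      rw [pow_succ']
      exact Ideal.mul_mem_mul hl hb
    -- hence fixed modulo `J'`
    let cR : HopfRep.Comod k A R := inferInstance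
    letI : HopfRep.Comod k A (R ⧸ J'.restrictScalars k) := ComodSub.Comod.quot cR (J'.restrictScalars k) hJ'
    have hπ : Hoch.IsComodHom A (J'.restrictScalars k).mkQ := ComodSub.isComodHom_mkQ cR (J'.restrictScalars k) hJ'
    set v := (J'.restrictScalars k).mkQ (h i)
    have hfix : ∀ I : Ideal A, GLin.IsPseudoReflAt k A R x I →
        LinearMap.lTensor _ (Ideal.Quotient.mkₐ k I).toLinearMap (HopfRep.Comod.coact (k := k) (A := A) v) =
          v ⊗ₜ[k] (1 : A ⧸ I) := fun I hI => ext_of_forall_slice_eq fun φ => by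
      rw [slice_lTensor, ← actF_apply, slice_tmul, ← comodHom_actF hπ, ← map_smul, ← sub_eq_zero, ← map_sub,
        Submodule.mkQ_apply, Submodule.Quotient.mk_eq_zero]
      exact hD I hI φ
    have hall := fixed_of_forall (GLin.IsPseudoReflAt k A R x) hfix
    have hG' : sSup {J : Ideal A | J.IsHopfIdeal k ∧ ∀ I : Ideal A, GLin.IsPseudoReflAt k A R x I → J ≤ I} = ⊥ :=
      hgen
    have hvfix : v ∈ HopfRep.fixedPts k A _ := by
      refine mem_fixedPts_of_fixed_bot ?_
      rw [← hG']
      exact hall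
    have hv2 : (J'.restrictScalars k).mkQ (rey α (h i)) = v := by
      rw [map_rey hπ, rey_of_fixed h1 hvfix]
    have hd : rey α (h i) - h i ∈ J' := (Submodule.Quotient.eq _).mp hv2
    have := J'.sub_mem (hJJ (Ideal.subset_span ⟨rey_mem_fixedPts hα _, hhm⟩)) hd
    rwa [sub_sub_cancel] at this

end Groth.Agent.PsReflLib
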