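import Groth.Agent.PsReflLib.Regular
import Groth.Agent.ComodLib.LinearAction
import Mathlib.RingTheory.RegularLocalRing.Polynomial
import Mathlib.RingTheory.KrullDimension.Polynomial
import Mathlib.RingTheory.KrullDimension.NonZeroDivisors
import Mathlib.RingTheory.Ideal.Height

/-!
# Invariants of linear pseudo-reflection groups are polynomial rings
-/

universe u

open TensorProduct MvPolynomial

namespace Groth.Agent.PsReflLib

open Groth.Agent.ComodLib

section Graded

variable {k : Type u} [CommRing k] {ι : Type u}

theorem homogeneousComponent_mul (a b : MvPolynomial ι k) (d : ℕ) :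
    homogeneousComponent d (a * b) =
      ∑ p ∈ Finset.antidiagonal d, homogeneousComponent p.1 a * homogeneousComponent p.2 b := by
  induction a using MvPolynomial.induction_on' with
  | add p q hp hq => simp only [add_mul, map_add, hp, hq, Finset.sum_add_distrib]
  | monomial u r =>
    induction b using MvPolynomial.induction_on' with
    | add p q hp hq => simp only [mul_add, map_add, hp, hq, Finset.sum_add_distrib]
    | monomial v s =>
      have hu : (monomial u r) ∈ homogeneousSubmodule ι k u.degree := isHomogeneous_monomial r rfl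
      have hv : (monomial v s) ∈ homogeneousSubmodule ι k v.degree := isHomogeneous_monomial s rfl
      have huv : (monomial u r * monomial v s) ∈ homogeneousSubmodule ι k (u.degree + v.degree) :=
        IsHomogeneous.mul hu hv
      simp only [homogeneousComponent_of_mem hu, homogeneousComponent_of_mem hv, homogeneousComponent_of_mem huv,
        ite_mul, mul_ite, zero_mul, mul_zero]
      by_cases h : d = u.degree + v.degree
      · rw [if_pos h, Finset.sum_eq_single (u.degree, v.degree)]
        · simp
        · rintro ⟨i, j⟩ _ hne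
          simp only [ne_eq, Prod.mk.injEq, not_and] at hne
          split_ifs with h1 h2 <;> first | rfl | (exfalso; exact hne (by assumption) (by assumption))
        · intro hn
          exact absurd (Finset.mem_antidiagonal.mpr h.symm) hn
      · rw [if_neg h, eq_comm]
        refine Finset.sum_eq_zero fun p hp => ?_
        split_ifs with h1 h2 <;> first | rfl | (exact absurd (by rw [← Finset.mem_antidiagonal.mp hp]; omega) h)

theorem aeval_zero_apply (f : MvPolynomial ι k) :
    aeval (fun _ : ι => (0 : k)) f = coeff 0 f := by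
  induction f using MvPolynomial.induction_on with
  | C a => simp
  | add p q hp hq => rw [map_add, hp, hq, coeff_add]
  | mul_X p i _ => classical rw [map_mul, aeval_X, mul_zero, coeff_mul_X']; simp

theorem homogeneousComponent_zero_eq_zero {f : MvPolynomial ι k}
    (hf : f ∈ RingHom.ker (aeval (fun _ : ι => (0 : k)) : MvPolynomial ι k →ₐ[k] k)) :
    homogeneousComponent 0 f = 0 := by
  rw [homogeneousComponent_zero, ← aeval_zero_apply, RingHom.mem_ker.mp hf, map_zero]

theorem mem_ker_of_isHomogeneous {f : MvPolynomial ι k} {d : ℕ} (hd : d ≠ 0) (hf : f.IsHomogeneous d) :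
    f ∈ RingHom.ker (aeval (fun _ : ι => (0 : k)) : MvPolynomial ι k →ₐ[k] k) := by
  rw [RingHom.mem_ker, aeval_zero_apply]
  exact hf.coeff_eq_zero (by simp [hd.symm])

theorem homogeneousComponent_one_eq_zero {f : MvPolynomial ι k}
    (hf : f ∈ RingHom.ker (aeval (fun _ : ι => (0 : k)) : MvPolynomial ι k →ₐ[k] k) ^ 2) :
    homogeneousComponent 1 f = 0 := by
  rw [pow_two] at hf
  induction hf using Submodule.mul_induction_on' with
  | add a _ b _ ha hb => rw [map_add, ha, hb, add_zero]
  | mem_mul_mem a ha b hb =>
    rw [homogeneousComponent_mul]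
    refine Finset.sum_eq_zero fun p hp => ?_
    rcases Nat.eq_zero_or_pos p.1 with h | h
    · rw [h, homogeneousComponent_zero_eq_zero ha, zero_mul]
    · rw [show p.2 = 0 by have := Finset.mem_antidiagonal.mp hp; omega, homogeneousComponent_zero_eq_zero hb, mul_zero]

theorem sub_homogeneousComponent_one_mem {f : MvPolynomial ι k}
    (hf : f ∈ RingHom.ker (aeval (fun _ : ι => (0 : k)) : MvPolynomial ι k →ₐ[k] k)) :
    f - homogeneousComponent 1 f ∈ RingHom.ker (aeval (fun _ : ι => (0 : k)) : MvPolynomial ι k →ₐ[k] k) ^ 2 := by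
  classical
  set m := RingHom.ker (aeval (fun _ : ι => (0 : k)) : MvPolynomial ι k →ₐ[k] k)
  have hdeg : ∀ d, 2 ≤ d → homogeneousComponent d f ∈ m ^ 2 := by
    intro d hd
    refine Ideal.pow_le_pow_right hd ?_
    have hle : homogeneousSubmodule ι k d ≤ (m ^ d).restrictScalars k := by
      rw [← homogeneousSubmodule_one_pow, Submodule.restrictScalars_pow (by omega)]
      exact pow_le_pow_left' (fun y hy => mem_ker_of_isHomogeneous one_ne_zero hy) d
    exact hle (homogeneousComponent_isHomogeneous d f)
  have hsum : ∀ n, ∑ i ∈ Finset.range n, homogeneousComponent i f -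
      (if 1 < n then homogeneousComponent 1 f else 0) ∈ m ^ 2 := by
    intro n
    induction n with
    | zero => simp
    | succ n ih =>
      rcases Nat.lt_or_ge n 2 with hn | hn
      · interval_cases n <;> simp [Finset.sum_range_succ, homogeneousComponent_zero_eq_zero hf]
      · rw [Finset.sum_range_succ, if_pos (by omega : 1 < n + 1)]
        rw [if_pos (by omega : 1 < n)] at ih
        rw [add_sub_right_comm]
        exact Ideal.add_mem _ ih (hdeg n hn)
  have h := hsum (f.totalDegree + 1)
  rw [sum_homogeneousComponent] at h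
  split_ifs at h with h1
  · exact h
  · rw [homogeneousComponent_eq_zero 1 f (by omega)]
    exact h

end Graded

variable {k : Type u} [Field k] {A : Type u} [CommRing A] [HopfAlgebra k A]
variable {ι : Type u} [Fintype ι] [HopfRep.Comod k A (MvPolynomial ι k)] [GLin.IsCoactAlg k A (MvPolynomial ι k)]

theorem isFixedPt_origin (hlin : GLin.IsLinear k A ι) :
    GLin.IsFixedPt k A (aeval (fun _ : ι => (0 : k)) : MvPolynomial ι k →ₐ[k] k) := by
  refine MvPolynomial.algHom_ext fun i => ?_
  obtain ⟨c, hc⟩ := hlin i
  rw [AlgHom.comp_apply, aeval_X, map_zero]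
  show Algebra.TensorProduct.lid k A (Algebra.TensorProduct.map (aeval fun _ : ι => (0 : k)) (AlgHom.id k A)
    (HopfRep.Comod.coact (k := k) (A := A) (X i : MvPolynomial ι k))) = 0
  rw [hc, map_sum, map_sum]
  exact Finset.sum_eq_zero fun j _ => by simp

theorem finrank_map_linForms {U : Submodule k (MvPolynomial ι k)} (hU : U ≤ GLin.linForms k ι) :
    Module.finrank k ↥(U.map (Ideal.Quotient.mkₐ k
      (RingHom.ker (aeval (fun _ : ι => (0 : k)) : MvPolynomial ι k →ₐ[k] k) ^ 2)).toLinearMap) =
      Module.finrank k ↥U := by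
  rw [← LinearMap.range_domRestrict]
  refine LinearMap.finrank_range_of_inj ((injective_iff_map_eq_zero _).mpr fun y hy => Subtype.ext ?_)
  have h := homogeneousComponent_one_eq_zero (Ideal.Quotient.eq_zero_iff_mem.mp hy)
  rw [Submodule.subtype_apply, homogeneousComponent_eq_self (hU y.2)] at h
  exact h

theorem cotSpace_origin :
    GLin.cotSpace k (MvPolynomial ι k) (aeval (fun _ : ι => (0 : k))) =
      (GLin.linForms k ι).map (Ideal.Quotient.mkₐ k
        (RingHom.ker (aeval (fun _ : ι => (0 : k)) : MvPolynomial ι k →ₐ[k] k) ^ 2)).toLinearMap := by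
  refine le_antisymm ?_ (Submodule.map_mono fun y hy => mem_ker_of_isHomogeneous one_ne_zero hy)
  rintro _ ⟨y, hy, rfl⟩
  exact ⟨homogeneousComponent 1 y, homogeneousComponent_isHomogeneous 1 y,
    (Ideal.Quotient.eq.mpr (sub_homogeneousComponent_one_mem hy)).symm⟩

theorem cotFixed_origin (hlin : GLin.IsLinear k A ι) (I : Ideal A) :
    GLin.cotFixed k A (MvPolynomial ι k) (aeval (fun _ : ι => (0 : k))) I =
      (GLin.linForms k ι ⊓ GLin.quotInvariants k A (MvPolynomial ι k) I).map (Ideal.Quotient.mkₐ k
        (RingHom.ker (aeval (fun _ : ι => (0 : k)) : MvPolynomial ι k →ₐ[k] k) ^ 2)).toLinearMap := by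
  set m := RingHom.ker (aeval (fun _ : ι => (0 : k)) : MvPolynomial ι k →ₐ[k] k)
  set q := (Ideal.Quotient.mkₐ k (m ^ 2)).toLinearMap
  have hmap : ∀ v : MvPolynomial ι k,
      TensorProduct.map q (Ideal.Quotient.mkₐ k I).toLinearMap (HopfRep.Comod.coact (k := k) (A := A) v) =
        q.rTensor (A ⧸ I) (LinearMap.lTensor _ (Ideal.Quotient.mkₐ k I).toLinearMap
          (HopfRep.Comod.coact (k := k) (A := A) v)) := fun v => by
    rw [← LinearMap.comp_apply (q.rTensor (A ⧸ I)), LinearMap.rTensor_comp_lTensor]
  refine le_antisymm ?_ ?_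
  · rintro _ ⟨v, ⟨hvm, hv⟩, rfl⟩
    have hql : q (homogeneousComponent 1 v) = q v :=
      (Ideal.Quotient.eq.mpr (sub_homogeneousComponent_one_mem hvm)).symm
    refine ⟨homogeneousComponent 1 v, ⟨homogeneousComponent_isHomogeneous 1 v, ?_⟩, hql⟩
    replace hv : TensorProduct.map q (Ideal.Quotient.mkₐ k I).toLinearMap (HopfRep.Comod.coact (k := k) (A := A) v) =
      q v ⊗ₜ[k] (1 : A ⧸ I) := hv
    rw [hmap] at hv
    show LinearMap.lTensor _ (Ideal.Quotient.mkₐ k I).toLinearMap
      (HopfRep.Comod.coact (k := k) (A := A) (homogeneousComponent 1 v)) = _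
    rw [coact_homogeneousComponent hlin]
    refine ext_of_forall_slice_eq fun φ => ?_
    have h := congrArg (slice φ) hv
    rw [slice_rTensor, slice_tmul, slice_lTensor, ← map_smul] at h
    simp only [LinearMap.flip_apply, TensorProduct.mk_apply]
    rw [slice_lTensor, slice_rTensor, slice_tmul, ← map_smul]
    refine sub_eq_zero.mp ?_
    rw [← map_sub]
    exact homogeneousComponent_one_eq_zero (Ideal.Quotient.eq.mp h)
  · rintro _ ⟨v, ⟨hv1, hv⟩, rfl⟩
    refine ⟨v, ⟨mem_ker_of_isHomogeneous one_ne_zero hv1, ?_⟩, rfl⟩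
    show TensorProduct.map q (Ideal.Quotient.mkₐ k I).toLinearMap (HopfRep.Comod.coact (k := k) (A := A) v) =
      q v ⊗ₜ[k] (1 : A ⧸ I)
    rw [hmap, (GLin.mem_quotInvariants_iff k A _ I v).mp hv, LinearMap.rTensor_tmul]

theorem isGenByPseudoReflAt_origin (hlin : GLin.IsLinear k A ι) (hgen : GLin.IsGenByPseudoRefl k A ι) :
    GLin.IsGenByPseudoReflAt k A (MvPolynomial ι k) (aeval (fun _ : ι => (0 : k))) := by
  have hiff : ∀ I : Ideal A, GLin.IsPseudoReflAt k A (MvPolynomial ι k) (aeval (fun _ : ι => (0 : k))) I ↔
      GLin.IsPseudoRefl k A ι I := fun I => by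
    rw [GLin.IsPseudoReflAt, GLin.IsPseudoRefl, cotFixed_origin hlin, cotSpace_origin,
      finrank_map_linForms inf_le_left, finrank_map_linForms le_rfl]
  unfold GLin.IsGenByPseudoReflAt GLin.genIdealAt
  simp only [hiff]
  exact hgen

theorem invariants_isPolynomial [Module.Finite k A] (hG : HopfRep.IsLinearlyReductive k A)
    (hsub : ∀ (I : Ideal A) [I.IsHopfIdeal k], HopfRep.IsLinearlyReductive k (A ⧸ I))
    (hlin : GLin.IsLinear k A ι) (hgen : GLin.IsGenByPseudoRefl k A ι) :
    ∃ r : ℕ, Nonempty (↥(GLin.invariants k A (MvPolynomial ι k)) ≃ₐ[k] MvPolynomial (Fin r) k) := by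
  classical
  let x : MvPolynomial ι k →ₐ[k] k := aeval (fun _ : ι => (0 : k))
  set S := GLin.invariants k A (MvPolynomial ι k) with hSdef
  let xS : ↥S →ₐ[k] k := x.comp S.val
  set q : Ideal ↥S := RingHom.ker xS with hqdef
  haveI : q.IsPrime := RingHom.ker_isPrime xS
  haveI : (RingHom.ker x).IsPrime := RingHom.ker_isPrime x
  haveI : IsRegularLocalRing (Localization.AtPrime (RingHom.ker x)) := IsRegularRing.isRegularLocalRing_localization _
  let Sq := Localization.AtPrime q
  haveI hreg : IsRegularLocalRing Sq := isRegularLocalRing_invariants hG hsub x (isFixedPt_origin hlin)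
    (isGenByPseudoReflAt_origin hlin hgen)
  obtain ⟨α, hα, h1⟩ := exists_integral_of_isLinearlyReductive (k := k) (A := A) hG
  haveI : IsNoetherianRing ↥S := isNoetherianRing_invariants hα h1
  let π := Ideal.Quotient.mkₐ k (q ^ 2)
  have hmodq : ∀ c y : ↥S, y ∈ q → π (c * y) = xS c • π y := by
    intro c y hy
    rw [← map_smul, Algebra.smul_def]
    refine Ideal.Quotient.eq.mpr ?_
    rw [← sub_mul, pow_two]
    exact Ideal.mul_mem_mul (sub_algebraMap_mem_ker xS c) hy
  -- homogeneous generators of the ideal `q`
  obtain ⟨Gq, hGq⟩ : q.FG := IsNoetherian.noetherian q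
  let hc : ℕ → ↥S → ↥S := fun d g => ⟨homogeneousComponent d (g : MvPolynomial ι k),
    homogeneousComponent_mem_invariants hlin g.2 d⟩
  let F : Finset ↥S := Gq.biUnion fun g => (Finset.Ico 1 ((g : MvPolynomial ι k).totalDegree + 1)).image fun d => hc d g
  have hFhom : ∀ y ∈ F, ∃ d, d ≠ 0 ∧ (y : MvPolynomial ι k).IsHomogeneous d := by
    intro y hy
    obtain ⟨g, -, hy⟩ := Finset.mem_biUnion.mp hy
    obtain ⟨d, hd, rfl⟩ := Finset.mem_image.mp hy
    exact ⟨d, by have := (Finset.mem_Ico.mp hd).1; omega, homogeneousComponent_isHomogeneous _ _⟩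
  have hFq : ∀ y ∈ F, y ∈ q := fun y hy => by
    obtain ⟨d, hd, hy⟩ := hFhom y hy
    exact mem_ker_of_isHomogeneous hd hy
  have hqF : q ≤ Ideal.span (F : Set ↥S) := by
    rw [← hGq]
    refine Ideal.span_le.mpr fun g hg => ?_
    have hgq : g ∈ q := hGq ▸ Ideal.subset_span hg
    have hsum : g = ∑ d ∈ Finset.Ico 1 ((g : MvPolynomial ι k).totalDegree + 1), hc d g := by
      apply Subtype.ext
      rw [AddSubmonoidClass.coe_finsetSum]
      show (g : MvPolynomial ι k) = ∑ d ∈ _, homogeneousComponent d (g : MvPolynomial ι k)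
      conv_lhs => rw [← sum_homogeneousComponent (g : MvPolynomial ι k)]
      rw [Finset.range_eq_Ico, Finset.sum_eq_sum_Ico_succ_bot (by omega : 0 < _),
        homogeneousComponent_zero_eq_zero (f := (g : MvPolynomial ι k)) hgq, zero_add]
    rw [SetLike.mem_coe, hsum]
    exact Ideal.sum_mem _ fun d hd =>
      Ideal.subset_span (Finset.mem_biUnion.mpr ⟨g, hg, Finset.mem_image_of_mem _ hd⟩)
  have hspanq : ∀ y ∈ q, π y ∈ Submodule.span k (π '' (F : Set ↥S)) := by
    intro y hy
    suffices h : ∀ c : ↥S, π (c * y) ∈ Submodule.span k (π '' (F : Set ↥S)) by simpa using h 1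
    have hy' := hqF hy
    clear hy
    induction hy' using Submodule.span_induction with
    | mem g hg => intro c; rw [hmodq c g (hFq g hg)]; exact Submodule.smul_mem _ _ (Submodule.subset_span ⟨g, hg, rfl⟩)
    | zero => intro c; simp
    | add a b _ _ ha hb => intro c; rw [mul_add, map_add]; exact Submodule.add_mem _ (ha c) (hb c)
    | smul d a _ ha => intro c; rw [smul_eq_mul, ← mul_assoc]; exact ha _
  -- at most `dim` many generators of the cotangent space
  let d := (IsLocalRing.maximalIdeal Sq).spanFinrank
  have hcot : ∃ D : Finset (↥S ⧸ q ^ 2), D.card ≤ d ∧ ∀ y ∈ q, π y ∈ Submodule.span k (D : Set (↥S ⧸ q ^ 2)) := by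
    have hfgm : (IsLocalRing.maximalIdeal Sq).FG := IsNoetherian.noetherian _
    have hfin := Submodule.FG.finite_generators hfgm
    have hgen : Ideal.span ((IsLocalRing.maximalIdeal Sq).generators) = IsLocalRing.maximalIdeal Sq :=
      Submodule.span_generators _
    choose g hg using fun z : Sq => IsLocalization.mk'_surjective q.primeCompl z
    let Gset : Finset ↥S := hfin.toFinset.image fun z => (g z).1
    have hGsub : ∀ y ∈ Gset, y ∈ q := by
      intro y hy
      obtain ⟨z, hz, rfl⟩ := Finset.mem_image.mp hy
      have hzm : z ∈ IsLocalRing.maximalIdeal Sq := hgen ▸ Ideal.subset_span (hfin.mem_toFinset.mp hz)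
      rw [← hg z] at hzm
      exact (IsLocalization.AtPrime.mk'_mem_maximal_iff Sq q (g z).1 (g z).2).mp hzm
    refine ⟨Gset.image π, ?_, fun y hy => ?_⟩
    · refine Finset.card_image_le.trans (Finset.card_image_le.trans ?_)
      rw [← Set.ncard_eq_toFinset_card _ hfin, Submodule.FG.generators_ncard hfgm]
    have hmap : algebraMap ↥S Sq y ∈ (Ideal.span (Gset : Set ↥S)).map (algebraMap ↥S Sq) := by
      have hle : IsLocalRing.maximalIdeal Sq ≤ (Ideal.span (Gset : Set ↥S)).map (algebraMap ↥S Sq) := by
        rw [← hgen]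
        refine Ideal.span_le.mpr fun z hz => ?_
        rw [SetLike.mem_coe, ← hg z]
        show IsLocalization.mk' Sq (g z).1 (g z).2 ∈ _
        rw [IsLocalization.mk'_eq_mul_mk'_one]
        exact Ideal.mul_mem_right _ _ (Ideal.mem_map_of_mem _
          (Ideal.subset_span (Finset.mem_image.mpr ⟨z, hfin.mem_toFinset.mpr hz, rfl⟩)))
      exact hle ((IsLocalization.AtPrime.to_map_mem_maximal_iff Sq q y).mpr hy)
    obtain ⟨s, hs, hsy⟩ := (IsLocalization.algebraMap_mem_map_algebraMap_iff q.primeCompl Sq _ y).mp hmap
    have hxs : xS s ≠ 0 := hs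
    have hspan : ∀ c : ↥S, ∀ z ∈ Ideal.span (Gset : Set ↥S), π (c * z) ∈ Submodule.span k ((Gset.image π : Finset _) : Set (↥S ⧸ q ^ 2)) := by
      intro c z hz
      induction hz using Submodule.span_induction generalizing c with
      | mem g hg =>
        rw [hmodq c g (hGsub g hg)]
        exact Submodule.smul_mem _ _ (Submodule.subset_span (Finset.mem_image_of_mem _ hg))
      | zero => simp
      | add a b _ _ ha hb => rw [mul_add, map_add]; exact Submodule.add_mem _ (ha c) (hb c)
      | smul d a _ ha => rw [smul_eq_mul, ← mul_assoc]; exact ha _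
    have h := hspan 1 _ hsy
    rw [one_mul, hmodq s y hy] at h
    exact (Submodule.smul_mem_iff _ hxs).mp h
  obtain ⟨D, hD, hDspan⟩ := hcot
  obtain ⟨b, hbF, hbspan, hbli⟩ := exists_linearIndependent k (π '' (F : Set ↥S))
  have hbfin : b.Finite := (F.finite_toSet.image π).subset hbF
  haveI := hbfin.fintype
  choose w hwF hw using fun z : b => hbF z.2
  have hbd : Fintype.card b ≤ d := by
    refine le_trans ?_ hD
    have hle : Submodule.span k b ≤ Submodule.span k (D : Set (↥S ⧸ q ^ 2)) := by
      rw [hbspan, Submodule.span_le]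
      rintro _ ⟨y, hy, rfl⟩
      exact hDspan y (hFq y hy)
    haveI := FiniteDimensional.span_finset k D
    have h2 := Submodule.finrank_mono hle
    rw [← Subtype.range_coe (s := b), finrank_span_eq_card hbli] at h2
    exact h2.trans (finrank_span_finset_le_card D)
  let e := (Fintype.equivFin b).symm
  let φ : MvPolynomial (Fin (Fintype.card b)) k →ₐ[k] ↥S := aeval fun j => w (e j)
  have hwmem : ∀ z : b, (w z) ∈ φ.range := fun z => ⟨X (e.symm z), by simp [φ]⟩
  -- generation
  have hgenr : ∀ n : ℕ, ∀ g : ↥S, (g : MvPolynomial ι k).IsHomogeneous n → g ∈ φ.range := by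
    intro n
    induction n using Nat.strong_induction_on with
    | _ n ih =>
      intro g hg
      rcases Nat.eq_zero_or_pos n with rfl | hn
      · have h0 : g = algebraMap k ↥S (coeff 0 (g : MvPolynomial ι k)) := by
          apply Subtype.ext
          conv_lhs => rw [← homogeneousComponent_eq_self (show (g : MvPolynomial ι k) ∈ homogeneousSubmodule ι k 0 from hg),
            homogeneousComponent_zero]
          rfl
        rw [h0]
        exact Subalgebra.algebraMap_mem _ _
      have hgq : g ∈ q := mem_ker_of_isHomogeneous (by omega) hg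
      have hgs := hbspan ▸ hspanq g hgq
      rw [← Subtype.range_coe (s := b)] at hgs
      obtain ⟨c, hcsum⟩ := (Submodule.mem_span_range_iff_exists_fun k).mp hgs
      have hy : g - ∑ z, c z • w z ∈ q ^ 2 := by
        refine Ideal.Quotient.eq.mp (show π g = π (∑ z, c z • w z) from ?_)
        rw [← hcsum, map_sum]
        exact Finset.sum_congr rfl fun z _ => by rw [map_smul, hw]
      have hcomp : ∀ y ∈ q ^ 2, hc n y ∈ φ.range := by
        intro y hy
        rw [pow_two] at hy
        induction hy using Submodule.mul_induction_on' with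
        | add a _ b _ ha hb =>
          rw [show hc n (a + b) = hc n a + hc n b from Subtype.ext (map_add (homogeneousComponent n) _ _)]
          exact add_mem ha hb
        | mem_mul_mem a ha b hb =>
          rw [show hc n (a * b) = ∑ p ∈ Finset.antidiagonal n, hc p.1 a * hc p.2 b from Subtype.ext (by
            rw [AddSubmonoidClass.coe_finsetSum]
            exact homogeneousComponent_mul _ _ _)]
          refine Subalgebra.sum_mem _ fun p hp => ?_
          have hp' := Finset.mem_antidiagonal.mp hp
          rcases Nat.eq_zero_or_pos p.1 with h | h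
          · rw [show hc p.1 a = 0 from Subtype.ext (by rw [h]; exact homogeneousComponent_zero_eq_zero ha), zero_mul]
            exact zero_mem _
          rcases Nat.eq_zero_or_pos p.2 with h' | h'
          · rw [show hc p.2 b = 0 from Subtype.ext (by rw [h']; exact homogeneousComponent_zero_eq_zero hb), mul_zero]
            exact zero_mem _
          exact mul_mem (ih p.1 (by omega) _ (homogeneousComponent_isHomogeneous _ _))
            (ih p.2 (by omega) _ (homogeneousComponent_isHomogeneous _ _))
      have hlinc : hc n (g - ∑ z, c z • w z) = g - ∑ z, c z • hc n (w z) := by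
        apply Subtype.ext
        show homogeneousComponent n _ = _
        push_cast
        rw [map_sub, map_sum, homogeneousComponent_eq_self (show (g : MvPolynomial ι k) ∈ homogeneousSubmodule ι k n from hg)]
        simp only [map_smul, hc]
      have hw' : ∀ z, hc n (w z) ∈ φ.range := fun z => by
        obtain ⟨e', -, he'⟩ := hFhom _ (hwF z)
        have h2 : hc n (w z) = if n = e' then w z else 0 := Subtype.ext (by
          show homogeneousComponent n _ = _
          rw [homogeneousComponent_of_mem he']
          split <;> rfl)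
        rw [h2]
        split
        · exact hwmem z
        · exact zero_mem _
      have h := hcomp _ hy
      rw [hlinc] at h
      have := add_mem h (Subalgebra.sum_mem _ fun z (_ : z ∈ Finset.univ) => Subalgebra.smul_mem _ (hw' z) (c z))
      rwa [sub_add_cancel] at this
  have hsurj : Function.Surjective φ := by
    intro g
    have hg : g = ∑ n ∈ Finset.range ((g : MvPolynomial ι k).totalDegree + 1), hc n g := by
      apply Subtype.ext
      rw [AddSubmonoidClass.coe_finsetSum]
      exact (sum_homogeneousComponent _).symm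
    have hmem : g ∈ φ.range := by
      rw [hg]
      exact Subalgebra.sum_mem _ fun n _ => hgenr n _ (homogeneousComponent_isHomogeneous _ _)
    exact hmem
  -- injectivity, by dimension
  have hinj : Function.Injective φ := by
    refine (injective_iff_map_eq_zero _).mpr fun p hp => ?_
    by_contra hp0
    let P := MvPolynomial (Fin (Fintype.card b)) k
    have hle : ringKrullDim ↥S ≤ ringKrullDim (P ⧸ Ideal.span {p}) :=
      ringKrullDim_le_of_surjective (Ideal.Quotient.lift (Ideal.span {p}) φ.toRingHom (fun a ha => by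
          obtain ⟨c, rfl⟩ := Ideal.mem_span_singleton.mp ha
          rw [AlgHom.toRingHom_eq_coe, RingHom.coe_coe, map_mul, hp, zero_mul]))
        (Ideal.Quotient.lift_surjective_of_surjective _ _ hsurj)
    have h2 := ringKrullDim_quotient_succ_le_of_nonZeroDivisor (R := P) (mem_nonZeroDivisors_of_ne_zero hp0)
    have h3 : ringKrullDim P = (Fintype.card b : ℕ) := by simp [P]
    have h4 : ((d : ℕ) : WithBot ℕ∞) ≤ ringKrullDim ↥S := by
      rw [(isRegularLocalRing_iff Sq).mp hreg, IsLocalization.AtPrime.ringKrullDim_eq_height q Sq]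
      exact Ideal.height_le_ringKrullDim_of_ne_top Ideal.IsPrime.ne_top'
    have h5 : ((d + 1 : ℕ) : WithBot ℕ∞) ≤ ((Fintype.card b : ℕ) : WithBot ℕ∞) := by
      push_cast
      rw [← h3]
      exact (add_le_add (h4.trans hle) le_rfl).trans h2
    have h6 : d + 1 ≤ Fintype.card b := by exact_mod_cast h5
    omega
  exact ⟨_, ⟨(AlgEquiv.ofBijective φ ⟨hinj, hsurj⟩).symm⟩⟩

end Groth.Agent.PsReflLib
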