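import Groth.Agent.PsReflLib.Free
import Groth.Agent.RegLoc6.Descent
import Groth.Agent.CotTLib.SmoothField
import Mathlib.RingTheory.Localization.AtPrime.Basic
import Mathlib.RingTheory.Etale.Basic

/-!
# The invariants are regular at a fixed point of a group generated by pseudo-reflections
-/

universe u

open TensorProduct

namespace Groth.Agent.PsReflLib

open Groth.Agent.ComodLib

variable {k : Type u} [Field k] {A : Type u} [CommRing A] [HopfAlgebra k A] [Module.Finite k A]
variable {R : Type u} [CommRing R] [Algebra k R] [HopfRep.Comod k A R] [GLin.IsCoactAlg k A R]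
  [Algebra.FiniteType k R]

theorem isRegularLocalRing_invariants (hG : HopfRep.IsLinearlyReductive k A)
    (hsub : ∀ (I : Ideal A) [I.IsHopfIdeal k], HopfRep.IsLinearlyReductive k (A ⧸ I))
    (x : R →ₐ[k] k) (hx : GLin.IsFixedPt k A x) (hgen : GLin.IsGenByPseudoReflAt k A R x)
    [(RingHom.ker (x.comp (GLin.invariants k A R).val)).IsPrime] [(RingHom.ker x).IsPrime]
    [IsRegularLocalRing (Localization.AtPrime (RingHom.ker x))] :
    IsRegularLocalRing (Localization.AtPrime (RingHom.ker (x.comp (GLin.invariants k A R).val))) := by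
  classical
  haveI : IsNoetherianRing R := Algebra.FiniteType.isNoetherianRing k R
  set m := RingHom.ker x
  set q := RingHom.ker (x.comp (GLin.invariants k A R).val)
  let Rm := Localization.AtPrime m
  let Sq := Localization.AtPrime q
  haveI : IsDomain Rm := RegLoc6.isDomain_of_isRegularLocalRing Rm
  have hzero : ∀ y : R, algebraMap R Rm y = 0 ↔ ∃ t, x t ≠ 0 ∧ t * y = 0 := fun y => by
    rw [IsLocalization.map_eq_zero_iff m.primeCompl]
    exact ⟨fun ⟨t, ht⟩ => ⟨t, t.2, ht⟩, fun ⟨t, ht, hty⟩ => ⟨⟨t, ht⟩, hty⟩⟩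
  have hdom : ∀ a b : R, a ∉ m ^ 2 → a * b = 0 → ∃ t, x t ≠ 0 ∧ t * b = 0 := by
    intro a b ha hab
    refine (hzero b).mp ((mul_eq_zero.mp (show algebraMap R Rm a * algebraMap R Rm b = 0 by
      rw [← map_mul, hab, map_zero])).resolve_left fun ha0 => ha ?_)
    obtain ⟨t, ht, hta⟩ := (hzero a).mp ha0
    have ham : a ∈ m := by
      have h := congrArg x hta
      rw [map_mul, map_zero] at h
      exact (mul_eq_zero.mp h).resolve_left ht
    have h1 : (t - algebraMap k R (x t)) * a ∈ m ^ 2 := pow_two m ▸ Ideal.mul_mem_mul (sub_algebraMap_mem_ker x t) ham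
    rw [sub_mul, hta, zero_sub, neg_mem_iff] at h1
    have h2 := (m ^ 2).mul_mem_left (algebraMap k R (x t)⁻¹) h1
    rwa [← mul_assoc, ← map_mul, inv_mul_cancel₀ ht, map_one, one_mul] at h2
  have hq : q = m.comap (GLin.invariants k A R).val.toRingHom := rfl
  let φ : Sq →+* Rm := Localization.localRingHom q m (GLin.invariants k A R).val.toRingHom hq
  letI : Algebra Sq Rm := φ.toAlgebra
  haveI : IsLocalHom (algebraMap Sq Rm) := Localization.isLocalHom_localRingHom q m _ hq
  have hto : ∀ a : GLin.invariants k A R, algebraMap Sq Rm (algebraMap _ Sq a) = algebraMap R Rm (a : R) :=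
    fun a => Localization.localRingHom_to_map q m _ hq a
  obtain ⟨α, hα, h1⟩ := exists_integral_of_isLinearlyReductive (k := k) (A := A) hG
  haveI : IsNoetherianRing (GLin.invariants k A R) := isNoetherianRing_invariants hα h1
  haveI : IsNoetherianRing Sq := IsLocalization.isNoetherianRing q.primeCompl Sq ‹_›
  haveI := finite_quotient_invIdeal (A := A) x
  let b := Module.finBasis k (R ⧸ invIdeal A x)
  choose e he using fun j => Ideal.Quotient.mk_surjective (b j)
  have hb : (fun j => Ideal.Quotient.mk (invIdeal A x) (e j)) = ⇑b := funext he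
  have hli : LinearIndependent Sq fun j => algebraMap R Rm (e j) := by
    refine Fintype.linearIndependent_iff.mpr fun g hg j => ?_
    obtain ⟨d, hd⟩ := IsLocalization.exist_integer_multiples_of_finite q.primeCompl g
    choose a ha using hd
    have hsum : algebraMap R Rm (∑ j, (a j : R) * e j) = 0 := by
      rw [← mul_zero (algebraMap R Rm ((d : GLin.invariants k A R) : R)), ← hg, map_sum, Finset.mul_sum]
      refine Finset.sum_congr rfl fun j _ => ?_
      rw [map_mul, ← hto, ha j, Algebra.smul_def, map_mul, hto, Algebra.smul_def, mul_assoc]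
    obtain ⟨t, ht, ht0⟩ := (hzero _).mp hsum
    obtain ⟨τ, hτ, hτ0, c, hc⟩ := exists_invariant_multiple hx ht
    have hrel : ∑ j, (τ * (a j : R)) * e j = 0 := by
      rw [show ∑ j, (τ * (a j : R)) * e j = c * (t * ∑ j, (a j : R) * e j) by
        rw [hc, Finset.mul_sum, Finset.mul_sum]; exact Finset.sum_congr rfl fun j _ => by ring, ht0, mul_zero]
    obtain ⟨s, hs, hs0, hsj⟩ := exists_mul_eq_zero_of_relation hG hsub hx hgen hdom (hb ▸ b.linearIndependent)
      (fun j => mul_mem hτ (a j).2) hrel j
    have haj : algebraMap _ Sq (a j) = 0 := by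
      rw [IsLocalization.map_eq_zero_iff q.primeCompl]
      refine ⟨⟨⟨s * τ, mul_mem hs hτ⟩, fun h => mul_ne_zero hs0 hτ0 ?_⟩, Subtype.ext ?_⟩
      · rw [← map_mul]; exact h
      · show s * τ * (a j : R) = 0
        rw [mul_assoc, hsj]
    rw [ha j, Algebra.smul_def] at haj
    exact (IsLocalization.map_units Sq d).mul_right_eq_zero.mp haj
  have hsp : ⊤ ≤ Submodule.span Sq (Set.range fun j => algebraMap R Rm (e j)) := by
    rintro z -
    obtain ⟨⟨r, t⟩, rfl⟩ := IsLocalization.mk'_surjective m.primeCompl z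
    obtain ⟨σ, hσ, hσ0, c, hc⟩ := exists_invariant_multiple hx (show x (t : R) ≠ 0 from t.2)
    obtain ⟨s, hs0, hs⟩ := exists_smul_mem_span (x := x) (hb ▸ b.span_eq)
    have hu : IsUnit (algebraMap _ Sq (s * ⟨σ, hσ⟩ : GLin.invariants k A R)) :=
      IsLocalization.map_units Sq (⟨s * ⟨σ, hσ⟩, fun h => mul_ne_zero hs0 hσ0 (by rw [← map_mul]; exact h)⟩ : q.primeCompl)
    obtain ⟨g, hg⟩ := (Submodule.mem_span_range_iff_exists_fun _).mp (hs (r * c))
    have hz : IsLocalization.mk' Rm r t = ↑hu.unit⁻¹ • algebraMap R Rm (∑ j, g j • e j) := by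
      rw [← inv_smul_smul hu.unit (IsLocalization.mk' Rm r t)]
      congr 1
      show hu.unit.val • IsLocalization.mk' Rm r t = _
      rw [IsUnit.unit_spec, Algebra.smul_def, hto, hg]
      show algebraMap R Rm ((s : R) * σ) * _ = algebraMap R Rm ((s : R) * (r * c))
      rw [show (s : R) * σ = (s : R) * c * t by rw [hc]; ring, map_mul, mul_assoc, IsLocalization.mk'_spec', ← map_mul]
      ring_nf
    show IsLocalization.mk' Rm r t ∈ _
    rw [hz, map_sum]
    refine Submodule.smul_mem _ _ (Submodule.sum_mem _ fun j _ => ?_)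
    rw [show algebraMap R Rm (g j • e j) = algebraMap _ Sq (g j) • algebraMap R Rm (e j) by
      rw [Algebra.smul_def, Algebra.smul_def, map_mul, hto]; rfl]
    exact Submodule.smul_mem _ _ (Submodule.subset_span ⟨j, rfl⟩)
  haveI : Module.Free Sq Rm := Module.Free.of_basis (Module.Basis.mk hli hsp)
  exact RegLoc6.isRegularLocalRing_of_flat (B := Rm)

end Groth.Agent.PsReflLib
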